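import Mathlib
import Cfsg.Agent.SporRec.J1.Defs
set_option linter.all false

/-!
Interface for the local analysis of groups of type `J1` (S0448, S0449, S1644).

* `Fus G`  : the fusion facts (all involutions conjugate, centraliser `Z2 × A5`, Sylow 2-subgroups of order 8 with
  normaliser of order 168, the type rule);
* `Small G` : every element of order 3 or 5 commuting with an involution `t` has centraliser of order 6 resp. 10
  (this is the case excluded by counting involutions).
-/

set_option autoImplicit false

namespace Cfsg.Agent.SporadicB.J1Local.Defs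

open Cfsg.Agent.SporRec.J1.Defs

/-- The fusion facts for a group of type `J1`. -/
structure Fus (G : Type*) [Group G] : Prop where
  conj : ∀ x y : G, orderOf x = 2 → orderOf y = 2 → ∃ g : G, g * x * g⁻¹ = y
  cent : ∀ x : G, orderOf x = 2 →
    Nonempty (Subgroup.centralizer ({x} : Set G) ≃* Multiplicative (ZMod 2) × alternatingGroup (Fin 5))
  card8 : ∀ S : Sylow 2 G, Nat.card S = 8
  sq : ∀ S : Sylow 2 G, ∀ x ∈ S, x * x = 1
  norm168 : ∀ S : Sylow 2 G, Nat.card (Subgroup.normalizer ((S : Subgroup G) : Set G)) = 168
  typeRule : ∀ x y : G, orderOf x = 2 → orderOf y = 2 → x ≠ y → x * y = y * x →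
    (y ∈ F x ↔ x ∉ F y)
  exists_two : ∃ x : G, orderOf x = 2

/-- The "small" case: elements of order 3 and 5 which commute with an involution have centralisers of order
6 and 10. -/
def Small (G : Type*) [Group G] : Prop :=
  ∀ t x : G, orderOf t = 2 → t * x = x * t → (orderOf x = 3 ∨ orderOf x = 5) →
    Nat.card (Subgroup.centralizer ({x} : Set G)) = 2 * orderOf x

end Cfsg.Agent.SporadicB.J1Local.Defs
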