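import Mathlib
set_option linter.all false

/-!
A four-group `⟨t, s⟩` acting on a group `K` of odd order, with `C_K(t) = ⟨x⟩` central in `K` and `s`
inverting `x`: `K = C_K(s) C_K(ts) ⟨x⟩` and `K/⟨x⟩` is abelian.
-/

set_option autoImplicit false

namespace Cfsg.Agent.SporadicB.J1Local.Kstr

variable {G : Type*} [Group G]

theorem exists_sqrt {c : G} (hc : Odd (orderOf c)) : ∃ m ∈ Subgroup.zpowers c, m * m = c := by
  obtain ⟨k, hk⟩ := hc
  refine ⟨c ^ (k + 1), Subgroup.pow_mem _ (Subgroup.mem_zpowers c) _, ?_⟩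
  have h1 : c ^ (2 * k + 1) = 1 := by rw [← hk]; exact pow_orderOf_eq_one c
  calc c ^ (k + 1) * c ^ (k + 1) = c ^ (2 * k + 1) * c := by
        rw [← pow_add, ← pow_succ]; congr 1; ring
    _ = c := by rw [h1, one_mul]

theorem conj_zpow_inv {t j : G} (ht : t * t = 1) (hj : t * j * t = j⁻¹) {m : G}
    (hm : m ∈ Subgroup.zpowers j) : t * m * t = m⁻¹ := by
  obtain ⟨i, rfl⟩ := Subgroup.mem_zpowers_iff.1 hm
  have hti : t⁻¹ = t := inv_eq_of_mul_eq_one_left ht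
  have h1 : t * j ^ i * t⁻¹ = (t * j * t⁻¹) ^ i := (conj_zpow).symm
  rw [hti] at h1
  rw [h1, hj, inv_zpow]

theorem conj_mul' {t a b : G} (ht : t * t = 1) : t * (a * b) * t = (t * a * t) * (t * b * t) := by
  calc t * (a * b) * t = t * a * 1 * b * t := by group
    _ = t * a * (t * t) * b * t := by rw [ht]
    _ = _ := by group

theorem conj_inv' {t a : G} (ht : t * t = 1) : t * a⁻¹ * t = (t * a * t)⁻¹ := by
  have hti : t⁻¹ = t := inv_eq_of_mul_eq_one_left ht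
  rw [mul_inv_rev, mul_inv_rev, hti, mul_assoc]

/-- The standing hypotheses. -/
structure Hyp (K : Subgroup G) (t s x : G) : Prop where
  odd : ∀ k ∈ K, Odd (orderOf k)
  tt : t * t = 1
  ss : s * s = 1
  ts : t * s = s * t
  xK : x ∈ K
  xc : ∀ k ∈ K, k * x = x * k
  tK : ∀ k ∈ K, t * k * t ∈ K
  sK : ∀ k ∈ K, s * k * s ∈ K
  tx : t * x = x * t
  sx : s * x * s = x⁻¹
  cent : ∀ k ∈ K, t * k = k * t → k ∈ Subgroup.zpowers x

variable {K : Subgroup G} {t s x : G}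

theorem Hyp.zK (h : Hyp K t s x) {z : G} (hz : z ∈ Subgroup.zpowers x) : z ∈ K :=
  (Subgroup.zpowers_le.2 h.xK) hz

theorem Hyp.zc (h : Hyp K t s x) {z : G} (hz : z ∈ Subgroup.zpowers x) {k : G} (hk : k ∈ K) :
    k * z = z * k := by
  obtain ⟨i, rfl⟩ := Subgroup.mem_zpowers_iff.1 hz
  have : Commute k x := h.xc k hk
  exact (this.zpow_right i).eq

theorem Hyp.sz (h : Hyp K t s x) {z : G} (hz : z ∈ Subgroup.zpowers x) : s * z * s = z⁻¹ :=
  conj_zpow_inv h.ss h.sx hz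

theorem Hyp.tz (h : Hyp K t s x) {z : G} (hz : z ∈ Subgroup.zpowers x) : t * z * t = z := by
  obtain ⟨i, rfl⟩ := Subgroup.mem_zpowers_iff.1 hz
  have : Commute t x := h.tx
  rw [(this.zpow_right i).eq, mul_assoc, h.tt, mul_one]

/-- `t` inverts `K/⟨x⟩`. -/
theorem Hyp.inv (h : Hyp K t s x) {k : G} (hk : k ∈ K) :
    ∃ z ∈ Subgroup.zpowers x, t * k * t = k⁻¹ * z := by
  set j := k⁻¹ * (t * k * t) with hj
  have hjK : j ∈ K := K.mul_mem (K.inv_mem hk) (h.tK k hk)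
  have htj : t * j * t = j⁻¹ := by
    have e1 : t * (t * k * t) * t = k := by
      calc t * (t * k * t) * t = (t * t) * k * (t * t) := by group
        _ = k := by rw [h.tt]; group
    rw [hj, conj_mul' h.tt, conj_inv' h.tt, e1]; group
  obtain ⟨m, hm, hmm⟩ := exists_sqrt (h.odd j hjK)
  have hmK : m ∈ K := (Subgroup.zpowers_le.2 hjK) hm
  have htm : t * m * t = m⁻¹ := conj_zpow_inv h.tt htj hm
  have hkj : t * k * t = k * (m * m) := by rw [hmm, hj]; group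
  have h1 : t * (k * m) * t = k * m := by
    rw [conj_mul' h.tt, htm, hkj]; group
  have h2 : t * (k * m) = (k * m) * t := by
    calc t * (k * m) = t * (k * m) * t * t⁻¹ := by group
      _ = k * m * t⁻¹ := by rw [h1]
      _ = k * m * t := by rw [inv_eq_of_mul_eq_one_left h.tt]
  have hz := h.cent (k * m) (K.mul_mem hk hmK) h2
  refine ⟨(k * m) * (k * m), Subgroup.mul_mem _ hz hz, ?_⟩
  rw [hkj]
  have h3 := h.zc hz (K.inv_mem hk)
  calc k * (m * m) = (k * m) * (k⁻¹ * (k * m)) := by group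
    _ = ((k * m) * k⁻¹) * (k * m) := by group
    _ = (k⁻¹ * (k * m)) * (k * m) := by rw [h3]
    _ = k⁻¹ * (k * m * (k * m)) := by group

/-- `K/⟨x⟩` is abelian. -/
theorem Hyp.ab (h : Hyp K t s x) {k l : G} (hk : k ∈ K) (hl : l ∈ K) :
    ∃ z ∈ Subgroup.zpowers x, k * l = l * k * z := by
  obtain ⟨z1, hz1, e1⟩ := h.inv (K.mul_mem hk hl)
  obtain ⟨z2, hz2, e2⟩ := h.inv hk
  obtain ⟨z3, hz3, e3⟩ := h.inv hl
  rw [conj_mul' h.tt, e2, e3] at e1
  -- k⁻¹ z2 l⁻¹ z3 = (k l)⁻¹ z1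
  have c2 := h.zc hz2 (K.inv_mem hl)
  have e4 : k⁻¹ * l⁻¹ * (z2 * z3) = l⁻¹ * k⁻¹ * z1 := by
    calc k⁻¹ * l⁻¹ * (z2 * z3) = k⁻¹ * (l⁻¹ * z2) * z3 := by group
      _ = k⁻¹ * (z2 * l⁻¹) * z3 := by rw [c2]
      _ = k⁻¹ * z2 * (l⁻¹ * z3) := by group
      _ = (k * l)⁻¹ * z1 := e1
      _ = _ := by group
  -- so k⁻¹ l⁻¹ = l⁻¹ k⁻¹ z
  have hz : z2 * z3 * z1⁻¹ ∈ Subgroup.zpowers x :=
    Subgroup.mul_mem _ (Subgroup.mul_mem _ hz2 hz3) (Subgroup.inv_mem _ hz1)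
  refine ⟨(z2 * z3 * z1⁻¹)⁻¹, Subgroup.inv_mem _ hz, ?_⟩
  have e5 : k⁻¹ * l⁻¹ * (z2 * z3 * z1⁻¹) = l⁻¹ * k⁻¹ := by
    calc k⁻¹ * l⁻¹ * (z2 * z3 * z1⁻¹) = (k⁻¹ * l⁻¹ * (z2 * z3)) * z1⁻¹ := by group
      _ = _ := by rw [e4]; group
  set z := z2 * z3 * z1⁻¹ with hzdef
  have c3 := h.zc hz (K.mul_mem hk hl)
  have e6 : z = l * k * (k * l)⁻¹ := by
    calc z = (k⁻¹ * l⁻¹)⁻¹ * (k⁻¹ * l⁻¹ * z) := by group
      _ = _ := by rw [e5]; group
  calc k * l = z⁻¹ * (z * (k * l)) := by group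
    _ = z⁻¹ * ((k * l) * z) := by rw [c3]
    _ = z⁻¹ * (z * (k * l)) := by rw [c3]
    _ = z⁻¹ * (l * k) := by rw [e6]; group
    _ = (l * k) * z⁻¹ := by
      have := h.zc (Subgroup.inv_mem _ hz) (K.mul_mem hl hk)
      exact this.symm

theorem Hyp.sqrtz (h : Hyp K t s x) {z : G} (hz : z ∈ Subgroup.zpowers x) :
    ∃ w ∈ Subgroup.zpowers x, w * w = z := by
  obtain ⟨m, hm, e⟩ := exists_sqrt (h.odd z (h.zK hz))
  exact ⟨m, (Subgroup.zpowers_le.2 hz) hm, e⟩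

/-- If an involution `r` normalising `K` and inverting `x` fixes the coset `u⟨x⟩`, it fixes an element. -/
theorem Hyp.fix (h : Hyp K t s x) {r u : G} (hrr : r * r = 1) (hrx : r * x * r = x⁻¹)
    {z : G} (hz : z ∈ Subgroup.zpowers x) (e : r * u * r = u * z) :
    ∃ w ∈ Subgroup.zpowers x, r * (u * w) = (u * w) * r := by
  obtain ⟨w, hw, hww⟩ := h.sqrtz hz
  refine ⟨w, hw, ?_⟩
  have hrw : r * w * r = w⁻¹ := conj_zpow_inv hrr hrx hw
  have e1 : r * (u * w) * r = u * w := by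
    rw [conj_mul' hrr, e, hrw, ← hww]; group
  have hri : r⁻¹ = r := inv_eq_of_mul_eq_one_left hrr
  calc r * (u * w) = r * (u * w) * r * r⁻¹ := by group
    _ = u * w * r⁻¹ := by rw [e1]
    _ = u * w * r := by rw [hri]

/-- Decomposition `K = C_K(s) C_K(ts) ⟨x⟩`. -/
theorem Hyp.decomp (h : Hyp K t s x) {k : G} (hk : k ∈ K) :
    ∃ a ∈ K, s * a = a * s ∧ ∃ b ∈ K, (t * s) * b = b * (t * s) ∧
      ∃ z ∈ Subgroup.zpowers x, k = a * b * z := by
  -- first the statement for squares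
  have key : ∀ k ∈ K, ∃ a ∈ K, s * a = a * s ∧ ∃ b ∈ K, (t * s) * b = b * (t * s) ∧
      ∃ z ∈ Subgroup.zpowers x, k * k = a * b * z := by
    intro k hk
    have hks := h.sK k hk
    -- u = k * k^s
    have huK : k * (s * k * s) ∈ K := K.mul_mem hk hks
    have hss : s * (s * k * s) * s = k := by
      calc s * (s * k * s) * s = (s * s) * k * (s * s) := by group
        _ = k := by rw [h.ss]; group
    obtain ⟨z1, hz1, e1⟩ := h.ab hks hk
    have eu : s * (k * (s * k * s)) * s = (k * (s * k * s)) * z1 := by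
      rw [conj_mul' h.ss, hss, e1]
    obtain ⟨w1, hw1, f1⟩ := h.fix h.ss h.sx hz1 eu
    -- v = k * (k^s)⁻¹
    have hvK : k * (s * k * s)⁻¹ ∈ K := K.mul_mem hk (K.inv_mem hks)
    have htst : (t * s) * (t * s) = 1 := by
      calc (t * s) * (t * s) = t * (s * t) * s := by group
        _ = t * (t * s) * s := by rw [h.ts]
        _ = (t * t) * (s * s) := by group
        _ = 1 := by rw [h.tt, h.ss, one_mul]
    have htsx : (t * s) * x * (t * s) = x⁻¹ := by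
      calc (t * s) * x * (t * s) = (t * s) * x * (s * t) := by rw [h.ts]
        _ = t * (s * x * s) * t := by group
        _ = t * x⁻¹ * t := by rw [h.sx]
        _ = x⁻¹ := h.tz (Subgroup.inv_mem _ (Subgroup.mem_zpowers x))
    have hts2 : ∀ c : G, (t * s) * c * (t * s) = t * (s * c * s) * t := by
      intro c
      calc (t * s) * c * (t * s) = (t * s) * c * (s * t) := by rw [h.ts]
        _ = _ := by group
    obtain ⟨z2, hz2, e2⟩ := h.inv hks
    obtain ⟨z3, hz3, e3⟩ := h.inv (K.inv_mem hk)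
    have ev : ∃ z ∈ Subgroup.zpowers x,
        (t * s) * (k * (s * k * s)⁻¹) * (t * s) = (k * (s * k * s)⁻¹) * z := by
      rw [conj_mul' htst, conj_inv' htst, hts2 k, hts2 (s * k * s), hss, e2]
      -- (t k t)⁻¹ = t k⁻¹ t = k z3
      have e5 : (t * k * t)⁻¹ = k * z3 := by
        rw [← conj_inv' h.tt, e3, inv_inv]
      rw [e5]
      obtain ⟨z4, hz4, e6⟩ := h.ab (K.inv_mem hks) hk
      have c2 := h.zc hz2 hk
      refine ⟨z4 * (z2 * z3), Subgroup.mul_mem _ hz4 (Subgroup.mul_mem _ hz2 hz3), ?_⟩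
      calc (s * k * s)⁻¹ * z2 * (k * z3) = (s * k * s)⁻¹ * (z2 * k) * z3 := by group
        _ = (s * k * s)⁻¹ * (k * z2) * z3 := by rw [c2]
        _ = ((s * k * s)⁻¹ * k) * (z2 * z3) := by group
        _ = (k * (s * k * s)⁻¹ * z4) * (z2 * z3) := by rw [e6]
        _ = _ := by group
    obtain ⟨z5, hz5, e7⟩ := ev
    obtain ⟨w2, hw2, f2⟩ := h.fix htst htsx hz5 e7
    refine ⟨_, K.mul_mem huK (h.zK hw1), f1, _, K.mul_mem hvK (h.zK hw2), f2, ?_⟩
    -- k k = u w1 v w2 z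
    obtain ⟨z6, hz6, e8⟩ := h.ab hks (K.mul_mem hk (K.inv_mem hks))
    have c1 := h.zc hw1 hvK
    have c6 := h.zc hz6 hvK
    refine ⟨z6⁻¹ * w2⁻¹ * w1⁻¹, ?_, ?_⟩
    · exact Subgroup.mul_mem _ (Subgroup.mul_mem _ (Subgroup.inv_mem _ hz6) (Subgroup.inv_mem _ hw2))
        (Subgroup.inv_mem _ hw1)
    · have hA : Commute w1 w2 := by
        obtain ⟨i, rfl⟩ := Subgroup.mem_zpowers_iff.1 hw1
        obtain ⟨j, rfl⟩ := Subgroup.mem_zpowers_iff.1 hw2
        exact Commute.zpow_zpow (Commute.refl x) i j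
      have hB : Commute w2 z6 := by
        obtain ⟨i, rfl⟩ := Subgroup.mem_zpowers_iff.1 hw2
        obtain ⟨j, rfl⟩ := Subgroup.mem_zpowers_iff.1 hz6
        exact Commute.zpow_zpow (Commute.refl x) i j
      have hD : Commute w1 z6 := by
        obtain ⟨i, rfl⟩ := Subgroup.mem_zpowers_iff.1 hw1
        obtain ⟨j, rfl⟩ := Subgroup.mem_zpowers_iff.1 hz6
        exact Commute.zpow_zpow (Commute.refl x) i j
      calc k * k = k * (k * (s * k * s)⁻¹ * (s * k * s)) := by group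
        _ = k * ((s * k * s) * (k * (s * k * s)⁻¹) * z6⁻¹) := by rw [e8]; group
        _ = (k * (s * k * s)) * (k * (s * k * s)⁻¹) * z6⁻¹ := by group
        _ = (k * (s * k * s)) * ((k * (s * k * s)⁻¹) * w1) * w1⁻¹ * z6⁻¹ := by group
        _ = (k * (s * k * s)) * (w1 * (k * (s * k * s)⁻¹)) * w1⁻¹ * z6⁻¹ := by rw [c1]
        _ = (k * (s * k * s) * w1) * (k * (s * k * s)⁻¹ * w2) * (w2⁻¹ * (w1⁻¹ * z6⁻¹)) := by group
        _ = (k * (s * k * s) * w1) * (k * (s * k * s)⁻¹ * w2) * (z6⁻¹ * w2⁻¹ * w1⁻¹) := by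
            rw [(hD.inv_inv).eq, ← mul_assoc w2⁻¹, (hB.inv_inv).eq, mul_assoc z6⁻¹]
  obtain ⟨m, hm, e⟩ := exists_sqrt (h.odd k hk)
  have hmK : m ∈ K := (Subgroup.zpowers_le.2 hk) hm
  obtain ⟨a, ha, fa, b, hb, fb, z, hz, ez⟩ := key m hmK
  exact ⟨a, ha, fa, b, hb, fb, z, hz, by rw [← e]; exact ez⟩

end Cfsg.Agent.SporadicB.J1Local.Kstr
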