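import Mathlib
import Cfsg.Agent.SporadicB.J1Local.Defs
import Cfsg.Agent.SporadicB.J1Local.CountFortyNine
import Cfsg.Agent.SporRec.J1.Defs
import Cfsg.Prelude.Def_SporadicB
import Cfsg.Agent.SporadicB.J1Local.Cases
set_option linter.all false

-- part: SporadicB/J1Local/CountBasic
section
/-!
Basic consequences of `Fus G` used in the upper bound for the number of involutions:
cardinals of centralisers of involutions and of Klein four-groups, class equation.
-/

set_option autoImplicit false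

namespace Cfsg.Agent.SporadicB.J1Local.CountBasic

open Cfsg.Agent.SporadicB.J1Local.Defs

/-- The group `Z2 × A5`. -/
abbrev K := Multiplicative (ZMod 2) × alternatingGroup (Fin 5)

theorem K_card : Fintype.card K = 120 := by decide +kernel

theorem K_invol : Fintype.card {x : K // x * x = 1 ∧ x ≠ 1} = 31 := by decide +kernel

theorem K_cent1 : ∀ v : K, (∀ x : K, x * v = v * x) → v.2 = 1 := by decide +kernel

theorem K_cent2 : ∀ v w : Multiplicative (ZMod 2), v ≠ 1 → w ≠ 1 → v = w := by decide +kernel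

theorem K_cent3 : ∀ y : K, y * y = 1 → y.2 ≠ 1 →
    (Finset.univ.filter (fun x : K => x * y = y * x)).card = 8 := by decide +kernel

theorem K_cent4 (v y : K) (hv : v ≠ 1) (hvc : ∀ x : K, x * v = v * x) (hy : y * y = 1) (hy1 : y ≠ 1)
    (hyv : y ≠ v) : Fintype.card {x : K // x * y = y * x} = 8 := by
  rw [Fintype.card_subtype]
  apply K_cent3 y hy
  intro h2
  have hv2 := K_cent1 v hvc
  have hv1 : v.1 ≠ 1 := fun h => hv (Prod.ext h hv2)
  have hy1' : y.1 ≠ 1 := fun h => hy1 (Prod.ext h h2)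
  exact hyv (Prod.ext (K_cent2 _ _ hy1' hv1) (h2.trans hv2.symm))

variable {G : Type*} [Group G]

theorem mem_cent {x y : G} : y ∈ Subgroup.centralizer ({x} : Set G) ↔ y * x = x * y := by
  rw [Subgroup.mem_centralizer_singleton_iff]

theorem orderOf_two_iff {x : G} : orderOf x = 2 ↔ x * x = 1 ∧ x ≠ 1 := by
  rw [orderOf_eq_prime_iff, pow_two]

theorem cent_card (hF : Fus G) (x : G) (hx : orderOf x = 2) :
    Nat.card (Subgroup.centralizer ({x} : Set G)) = 120 := by
  obtain ⟨e⟩ := hF.cent x hx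
  rw [Nat.card_congr e.toEquiv, Nat.card_eq_fintype_card]
  exact K_card

theorem cent_invol (hF : Fus G) (x : G) (hx : orderOf x = 2) :
    Nat.card {y : G // orderOf y = 2 ∧ y * x = x * y} = 31 := by
  obtain ⟨e⟩ := hF.cent x hx
  rw [← K_invol, ← Nat.card_eq_fintype_card]
  refine Nat.card_congr ?_
  refine
    { toFun := fun y => ⟨e ⟨y.1, mem_cent.2 y.2.2⟩, ?_, ?_⟩
      invFun := fun k => ⟨(e.symm k.1 : G), ?_, ?_⟩
      left_inv := ?_
      right_inv := ?_ }
  · have h := (orderOf_two_iff.1 y.2.1).1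
    rw [← map_mul, ← map_one e]
    congr 1
    exact Subtype.ext h
  · intro h
    rw [← map_one e] at h
    have h2 := congrArg Subtype.val (e.injective h)
    exact (orderOf_two_iff.1 y.2.1).2 h2
  · rw [orderOf_two_iff]
    constructor
    · rw [← Subgroup.coe_mul, ← map_mul, k.2.1, map_one, Subgroup.coe_one]
    · intro h
      apply k.2.2
      have h2 : e.symm k.1 = 1 := Subtype.ext h
      rw [← map_one e.symm] at h2
      exact e.symm.injective h2
  · exact mem_cent.1 (e.symm k.1).2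
  · intro y
    apply Subtype.ext
    simp
  · intro k
    apply Subtype.ext
    simp

theorem cent_cent (hF : Fus G) (x : G) (hx : orderOf x = 2) (y : G) (hy : orderOf y = 2) (hxy : y ≠ x)
    (hc : y * x = x * y) : Nat.card {w : G // w * x = x * w ∧ w * y = y * w} = 8 := by
  obtain ⟨e⟩ := hF.cent x hx
  have hxm : x ∈ Subgroup.centralizer ({x} : Set G) := mem_cent.2 rfl
  have hym : y ∈ Subgroup.centralizer ({x} : Set G) := mem_cent.2 hc
  have hxo := orderOf_two_iff.1 hx
  have hyo := orderOf_two_iff.1 hy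
  have key := K_cent4 (e ⟨x, hxm⟩) (e ⟨y, hym⟩) (by
      intro h
      rw [← map_one e] at h
      exact hxo.2 (congrArg Subtype.val (e.injective h)))
    (by
      intro k
      obtain ⟨k, rfl⟩ := e.surjective k
      rw [← map_mul, ← map_mul]
      congr 1
      exact Subtype.ext (mem_cent.1 k.2))
    (by
      rw [← map_mul, ← map_one e]
      congr 1
      exact Subtype.ext hyo.1)
    (by
      intro h
      rw [← map_one e] at h
      exact hyo.2 (congrArg Subtype.val (e.injective h)))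
    (by
      intro h
      exact hxy (congrArg Subtype.val (e.injective h)))
  rw [← key, ← Nat.card_eq_fintype_card]
  refine Nat.card_congr ?_
  refine
    { toFun := fun w => ⟨e ⟨w.1, mem_cent.2 w.2.1⟩, ?_⟩
      invFun := fun k => ⟨(e.symm k.1 : G), ?_, ?_⟩
      left_inv := ?_
      right_inv := ?_ }
  · rw [← map_mul, ← map_mul]
    congr 1
    exact Subtype.ext w.2.2
  · exact mem_cent.1 (e.symm k.1).2
  · have h := congrArg e.symm k.2
    rw [map_mul, map_mul, MulEquiv.symm_apply_apply] at h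
    exact congrArg Subtype.val h
  · intro w
    apply Subtype.ext
    simp
  · intro k
    apply Subtype.ext
    simp

/-- The class equation for involutions. -/
theorem card_invol [Finite G] (hF : Fus G) : Nat.card {x : G // orderOf x = 2} * 120 = Nat.card G := by
  obtain ⟨x, hx⟩ := hF.exists_two
  have h1 : Nat.card (MulAction.orbit (ConjAct G) x) * Nat.card (MulAction.stabilizer (ConjAct G) x) =
      Nat.card (ConjAct G) := by
    have := MulAction.index_stabilizer (ConjAct G) x
    rw [← Nat.card_coe_set_eq] at this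
    rw [← this, mul_comm]
    exact Subgroup.card_mul_index _
  have h2 : Nat.card (MulAction.stabilizer (ConjAct G) x) = 120 := by
    rw [← cent_card hF x hx]
    refine Nat.card_congr ?_
    refine
      { toFun := fun g => ⟨ConjAct.ofConjAct g.1, ?_⟩
        invFun := fun g => ⟨ConjAct.toConjAct g.1, ?_⟩
        left_inv := ?_
        right_inv := ?_ }
    · have h := g.2
      rw [MulAction.mem_stabilizer_iff, ConjAct.smul_def] at h
      rw [mem_cent]
      exact mul_inv_eq_iff_eq_mul.1 h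
    · have h := mem_cent.1 g.2
      rw [MulAction.mem_stabilizer_iff, ConjAct.smul_def, ConjAct.ofConjAct_toConjAct]
      exact mul_inv_eq_iff_eq_mul.2 h
    · intro g; rfl
    · intro g; rfl
  have h3 : Nat.card (MulAction.orbit (ConjAct G) x) = Nat.card {x : G // orderOf x = 2} := by
    refine Nat.card_congr (Equiv.subtypeEquivRight ?_)
    intro y
    constructor
    · rintro ⟨g, rfl⟩
      show orderOf (g • x) = 2
      rw [ConjAct.smul_def, ← hx]
      exact orderOf_injective (MulAut.conj (ConjAct.ofConjAct g)).toMonoidHom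
        (MulAut.conj (ConjAct.ofConjAct g)).injective x
    · intro hy
      obtain ⟨g, hg⟩ := hF.conj x y hx hy
      exact ⟨ConjAct.toConjAct g, hg⟩
  rw [h2, h3] at h1
  rw [h1]
  rfl

end Cfsg.Agent.SporadicB.J1Local.CountBasic
end

-- part: SporadicB/J1Local/CountSylow
section
/-!
Facts about a Sylow 2-subgroup `S` of a group of type `J1` and its normaliser `H`.
-/

set_option autoImplicit false

namespace Cfsg.Agent.SporadicB.J1Local.CountSylow

open Cfsg.Agent.SporadicB.J1Local.Defs Cfsg.Agent.SporadicB.J1Local.CountBasic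

variable {G : Type*} [Group G]

/-- The normaliser of the Sylow subgroup. -/
abbrev N (S : Sylow 2 G) : Subgroup G := Subgroup.normalizer ((S : Subgroup G) : Set G)

theorem le_N (S : Sylow 2 G) : (S : Subgroup G) ≤ N S := Subgroup.le_normalizer

theorem orderOf_mem (hF : Fus G) (S : Sylow 2 G) {x : G} (hx : x ∈ S) (h1 : x ≠ 1) : orderOf x = 2 :=
  orderOf_two_iff.2 ⟨hF.sq S x hx, h1⟩

theorem comm (hF : Fus G) (S : Sylow 2 G) {x y : G} (hx : x ∈ S) (hy : y ∈ S) : x * y = y * x := by
  have h1 := hF.sq S x hx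
  have h2 := hF.sq S y hy
  have h3 := hF.sq S (x * y) (S.mul_mem hx hy)
  have h1' : x⁻¹ = x := inv_eq_of_mul_eq_one_left h1
  have h2' : y⁻¹ = y := inv_eq_of_mul_eq_one_left h2
  have h3' : (x * y)⁻¹ = x * y := inv_eq_of_mul_eq_one_left h3
  rw [mul_inv_rev, h1', h2'] at h3'
  exact h3'.symm

theorem conj_mem (S : Sylow 2 G) {h x : G} (hh : h ∈ N S) (hx : x ∈ S) : h * x * h⁻¹ ∈ S :=
  (Subgroup.mem_normalizer_iff.1 hh x).1 hx

theorem invol_mem [Finite G] (S : Sylow 2 G) {x : G} (hx : x ∈ N S) (h2 : x * x = 1) : x ∈ S := by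
  have hp : IsPGroup 2 (Subgroup.zpowers x) := by
    by_cases h1 : x = 1
    · rw [h1, Subgroup.zpowers_one_eq_bot]
      exact IsPGroup.of_bot
    · have : Nat.card (Subgroup.zpowers x) = 2 ^ 1 := by
        rw [Nat.card_zpowers, pow_one]
        exact orderOf_two_iff.2 ⟨h2, h1⟩
      exact IsPGroup.of_card this
  have h := hp.inf_normalizer_sylow S
  have hm : x ∈ Subgroup.zpowers x ⊓ (S : Subgroup G) := by
    rw [← h]
    exact ⟨Subgroup.mem_zpowers x, hx⟩
  exact hm.2

/-- Two distinct involutions of `S` have centraliser `S`. -/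
theorem cent_two [Finite G] (hF : Fus G) (S : Sylow 2 G) {x y w : G} (hx : x ∈ S) (hy : y ∈ S) (hx1 : x ≠ 1)
    (hy1 : y ≠ 1) (hxy : y ≠ x) (h1 : w * x = x * w) (h2 : w * y = y * w) : w ∈ S := by
  have hc := cent_cent hF x (orderOf_mem hF S hx hx1) y (orderOf_mem hF S hy hy1) hxy (comm hF S hy hx)
  have h8 := hF.card8 S
  let A : Set G := {w | w * x = x * w ∧ w * y = y * w}
  have hsub : ((S : Subgroup G) : Set G) ⊆ A := fun s hs => ⟨comm hF S hs hx, comm hF S hs hy⟩
  have heq : ((S : Subgroup G) : Set G) = A := by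
    apply Set.eq_of_subset_of_ncard_le hsub
    · rw [← Nat.card_coe_set_eq, ← Nat.card_coe_set_eq]
      have e1 : Nat.card A = 8 := hc
      have e2 : Nat.card ((S : Subgroup G) : Set G) = 8 := h8
      rw [e1, e2]
  have hw : w ∈ A := ⟨h1, h2⟩
  rw [← heq] at hw
  exact hw

/-- An element normalising a four-subgroup of `S` normalises `S`. -/
theorem norm_four [Finite G] (hF : Fus G) (S : Sylow 2 G) {x y r : G} (hx : x ∈ S) (hy : y ∈ S) (hx1 : x ≠ 1)
    (hy1 : y ≠ 1) (hxy : y ≠ x) (hr2 : r * r = 1) (h1 : r * x * r = x * y) (h2 : r * y * r = y) : r ∈ N S := by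
  have hri : r⁻¹ = r := inv_eq_of_mul_eq_one_left hr2
  -- `r s r ∈ S` for `s ∈ S`
  have key : ∀ s ∈ S, r * s * r ∈ S := by
    intro s hs
    have hsx := comm hF S hs hx
    have hsy := comm hF S hs hy
    have hsxy : s * (x * y) = (x * y) * s := comm hF S hs (S.mul_mem hx hy)
    have hcx : r * (x * y) * r = x := by
      have : r * (x * y) * r = (r * x * r) * (r * y * r) := by
        calc r * (x * y) * r = r * x * 1 * y * r := by group
          _ = r * x * (r * r) * y * r := by rw [hr2]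
          _ = (r * x * r) * (r * y * r) := by group
      rw [this, h1, h2, mul_assoc, hF.sq S y hy, mul_one]
    refine cent_two hF S hx hy hx1 hy1 hxy ?_ ?_
    · calc r * s * r * x = r * s * r * (r * (x * y) * r) := by rw [hcx]
        _ = r * s * (r * r) * (x * y) * r := by group
        _ = r * (s * (x * y)) * r := by rw [hr2]; group
        _ = r * ((x * y) * s) * r := by rw [hsxy]
        _ = r * (x * y) * 1 * s * r := by group
        _ = r * (x * y) * (r * r) * s * r := by rw [hr2]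
        _ = (r * (x * y) * r) * (r * s * r) := by group
        _ = x * (r * s * r) := by rw [hcx]
    · calc r * s * r * y = r * s * r * (r * y * r) := by rw [h2]
        _ = r * s * (r * r) * y * r := by group
        _ = r * (s * y) * r := by rw [hr2]; group
        _ = r * (y * s) * r := by rw [hsy]
        _ = r * y * 1 * s * r := by group
        _ = r * y * (r * r) * s * r := by rw [hr2]
        _ = (r * y * r) * (r * s * r) := by group
        _ = y * (r * s * r) := by rw [h2]
  rw [Subgroup.mem_normalizer_iff]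
  intro s
  constructor
  · intro hs
    rw [hri]
    exact key s hs
  · intro hs
    rw [hri] at hs
    have := key _ hs
    have h : r * (r * s * r) * r = s := by
      calc r * (r * s * r) * r = (r * r) * s * (r * r) := by group
        _ = s := by rw [hr2]; group
    rw [h] at this
    exact this

/-- Number of involutions in the normaliser of `S`. -/
theorem card_invol_N [Finite G] (hF : Fus G) (S : Sylow 2 G) :
    Nat.card {x : G // orderOf x = 2 ∧ x ∈ N S} = 7 := by
  have h8 := hF.card8 S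
  have e : {x : G // orderOf x = 2 ∧ x ∈ N S} ≃ {x : (S : Subgroup G) // x ≠ 1} :=
    { toFun := fun x => ⟨⟨x.1, invol_mem S x.2.2 (orderOf_two_iff.1 x.2.1).1⟩, by
        intro h
        exact (orderOf_two_iff.1 x.2.1).2 (congrArg Subtype.val h)⟩
      invFun := fun x => ⟨x.1.1, orderOf_mem hF S x.1.2 (fun h => x.2 (Subtype.ext h)), le_N S x.1.2⟩
      left_inv := fun x => rfl
      right_inv := fun x => rfl }
  rw [Nat.card_congr e]
  classical
  have h := Nat.card_congr (Equiv.sumCompl (fun x : (S : Subgroup G) => x = 1))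
  rw [Nat.card_sum] at h
  have h1 : Nat.card {x : (S : Subgroup G) // x = 1} = 1 := by
    rw [Nat.card_eq_one_iff_unique]
    exact ⟨⟨fun a b => Subtype.ext (a.2.trans b.2.symm)⟩, ⟨⟨1, rfl⟩⟩⟩
  have h8' : Nat.card (S : Subgroup G) = 8 := h8
  rw [h1, h8'] at h
  have h3 : Nat.card {x : (S : Subgroup G) // x ≠ 1} = Nat.card {x : (S : Subgroup G) // ¬ x = 1} := rfl
  rw [h3]
  omega

theorem card_N (hF : Fus G) (S : Sylow 2 G) : Nat.card (N S) = 168 := hF.norm168 S

theorem relIndex_S_N [Finite G] (hF : Fus G) (S : Sylow 2 G) : (S : Subgroup G).relIndex (N S) = 21 := by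
  have h := Subgroup.relIndex_mul_relIndex (⊥ : Subgroup G) (S : Subgroup G) (N S) bot_le (le_N S)
  rw [Subgroup.relIndex_bot_left, Subgroup.relIndex_bot_left, card_N hF S] at h
  have h8 : Nat.card (S : Subgroup G) = 8 := hF.card8 S
  rw [h8] at h
  omega

theorem card_mul_relIndex [Finite G] (S : Sylow 2 G) (D : Subgroup G) :
    Nat.card ((S : Subgroup G) ⊓ D : Subgroup G) * (S : Subgroup G).relIndex D = Nat.card D := by
  have h := Subgroup.relIndex_mul_relIndex (⊥ : Subgroup G) ((S : Subgroup G) ⊓ D) D bot_le inf_le_right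
  rw [Subgroup.relIndex_bot_left, Subgroup.relIndex_bot_left, Subgroup.inf_relIndex_right] at h
  exact h

end Cfsg.Agent.SporadicB.J1Local.CountSylow
end

-- part: SporadicB/J1Local/CountFibre
section
/-!
Bounds for the number of elements of `H = N(S)` inverted by an involution outside `H`.
-/

set_option autoImplicit false

namespace Cfsg.Agent.SporadicB.J1Local.CountFibre

open Cfsg.Agent.SporadicB.J1Local.Defs Cfsg.Agent.SporadicB.J1Local.CountBasic
  Cfsg.Agent.SporadicB.J1Local.CountSylow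

variable {G : Type*} [Group G]

/-- The elements of `N(S)` inverted by `r`. -/
def M (S : Sylow 2 G) (r : G) : Set G := {h | h ∈ N S ∧ r * h * r⁻¹ = h⁻¹}

/-- The intersection of `N(S)` with its conjugate by `r`. -/
def D (S : Sylow 2 G) (r : G) : Subgroup G := N S ⊓ (N S).comap (MulAut.conj r).toMonoidHom

theorem mem_D {S : Sylow 2 G} {r h : G} : h ∈ D S r ↔ h ∈ N S ∧ r * h * r⁻¹ ∈ N S := Iff.rfl

theorem M_sub_D {S : Sylow 2 G} {r : G} : M S r ⊆ (D S r : Set G) := by
  intro h hh
  refine mem_D.2 ⟨hh.1, ?_⟩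
  rw [hh.2]
  exact (N S).inv_mem hh.1

theorem conj_S [Finite G] (hF : Fus G) {S : Sylow 2 G} {r x : G} (hx : x ∈ S) (h : r * x * r⁻¹ ∈ N S) :
    r * x * r⁻¹ ∈ S := by
  apply invol_mem S h
  have := hF.sq S x hx
  calc r * x * r⁻¹ * (r * x * r⁻¹) = r * (x * x) * r⁻¹ := by group
    _ = 1 := by rw [this]; group

/-- First kind of involutions: those commuting with an involution of `S`. -/
theorem inter_one [Finite G] (hF : Fus G) (S : Sylow 2 G) {r v : G} (hr : orderOf r = 2) (hrN : r ∉ N S)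
    (hv : v ∈ S) (hv1 : v ≠ 1) (hrv : r * v = v * r) {x : G} (hx : x ∈ S) (hxD : x ∈ D S r) :
    x = 1 ∨ x = v := by
  by_contra hcon
  push Not at hcon
  obtain ⟨hx1, hxv⟩ := hcon
  have hr2 := (orderOf_two_iff.1 hr).1
  have hri : r⁻¹ = r := inv_eq_of_mul_eq_one_left hr2
  have hrS : r ∉ S := fun h => hrN (le_N S h)
  have hx' := conj_S hF hx (mem_D.1 hxD).2
  rw [hri] at hx'
  have hcom := comm hF S hx hx'
  -- y = x * (r x r)
  have hyS : x * (r * x * r) ∈ S := S.mul_mem hx hx'
  have hyr : r * (x * (r * x * r)) = (x * (r * x * r)) * r := by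
    calc r * (x * (r * x * r)) = (r * x * r) * x * r := by group
      _ = x * (r * x * r) * r := by rw [hcom]
  have hrv' : r * v = v * r := hrv
  by_cases hy1 : x * (r * x * r) = 1
  · -- r x r = x
    have hxx := hF.sq S x hx
    have h1 : r * x * r = x := by
      calc r * x * r = (x * x) * (r * x * r) := by rw [hxx]; group
        _ = x * (x * (r * x * r)) := by group
        _ = x := by rw [hy1, mul_one]
    have h2 : r * x = x * r := by
      calc r * x = r * x * (r * r) := by rw [hr2, mul_one]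
        _ = (r * x * r) * r := by group
        _ = x * r := by rw [h1]
    exact hrS (cent_two hF S hv hx hv1 hx1 hxv hrv h2)
  · by_cases hyv : x * (r * x * r) = v
    · have hxx := hF.sq S x hx
      have h1 : r * x * r = x * v := by
        calc r * x * r = (x * x) * (r * x * r) := by rw [hxx]; group
          _ = x * (x * (r * x * r)) := by group
          _ = x * v := by rw [hyv]
      have h2 : r * v * r = v := by
        rw [hrv, mul_assoc, hr2, mul_one]
      exact hrN (norm_four hF S hx hv hx1 hv1 (Ne.symm hxv) hr2 h1 h2)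
    · exact hrS (cent_two hF S hv hyS hv1 hy1 hyv hrv hyr)

theorem M_card_one [Finite G] (hF : Fus G) (S : Sylow 2 G) {r v : G} (hr : orderOf r = 2) (hrN : r ∉ N S)
    (hv : v ∈ S) (hv1 : v ≠ 1) (hrv : r * v = v * r) : Nat.card (M S r) ≤ 6 := by
  have hvD : v ∈ D S r := by
    refine mem_D.2 ⟨le_N S hv, ?_⟩
    rw [hrv, mul_assoc, mul_inv_cancel, mul_one]
    exact le_N S hv
  -- D centralises v
  have hDC : D S r ≤ Subgroup.centralizer ({v} : Set G) := by
    intro h hh
    have h1 : h * v * h⁻¹ ∈ S := conj_mem S (mem_D.1 hh).1 hv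
    have h2 : h * v * h⁻¹ ∈ D S r := (D S r).mul_mem ((D S r).mul_mem hh hvD) ((D S r).inv_mem hh)
    rcases inter_one hF S hr hrN hv hv1 hrv h1 h2 with h3 | h3
    · exfalso
      apply hv1
      have : v = h⁻¹ * (h * v * h⁻¹) * h := by group
      rw [this, h3]
      group
    · rw [mem_cent]
      exact mul_inv_eq_iff_eq_mul.1 h3
  have hvo := orderOf_mem hF S hv hv1
  set C := Subgroup.centralizer ({v} : Set G) ⊓ N S with hC
  have hDC' : D S r ≤ C := le_inf hDC (fun h hh => (mem_D.1 hh).1)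
  have hSC : (S : Subgroup G) ≤ C := le_inf (fun s hs => mem_cent.2 (comm hF S hs hv)) (le_N S)
  have hc1 : Nat.card C ∣ 120 := by
    rw [← cent_card hF v hvo]
    exact Subgroup.card_dvd_of_le inf_le_left
  have hc2 : Nat.card C ∣ 168 := by
    rw [← card_N hF S]
    exact Subgroup.card_dvd_of_le inf_le_right
  have hc3 : Nat.card C ∣ 24 := by
    have := Nat.dvd_gcd hc1 hc2
    simpa using this
  have hc4 := Nat.le_of_dvd (by norm_num) hc3
  have h5 := Subgroup.relIndex_mul_relIndex (⊥ : Subgroup G) (S : Subgroup G) C bot_le hSC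
  rw [Subgroup.relIndex_bot_left, Subgroup.relIndex_bot_left] at h5
  have h8 : Nat.card (S : Subgroup G) = 8 := hF.card8 S
  rw [h8] at h5
  have h6 : (S : Subgroup G).relIndex C ≤ 3 := by omega
  have h7 : (S : Subgroup G).relIndex C ≠ 0 := by
    intro h
    rw [h] at h5
    have : 0 < Nat.card C := Nat.card_pos
    omega
  have h9 : (S : Subgroup G).relIndex (D S r) ≤ 3 := (Subgroup.relIndex_le_of_le_right hDC' h7).trans h6
  have h10 := card_mul_relIndex S (D S r)
  have h11 : Nat.card ((S : Subgroup G) ⊓ D S r : Subgroup G) ≤ 2 := by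
    have hsub : (((S : Subgroup G) ⊓ D S r : Subgroup G) : Set G) ⊆ {1, v} := by
      intro x hx
      rcases inter_one hF S hr hrN hv hv1 hrv hx.1 hx.2 with h | h
      · left; exact h
      · right; exact h
    have := Set.ncard_le_ncard hsub (Set.toFinite _)
    rw [Set.ncard_pair (Ne.symm hv1)] at this
    rw [← Nat.card_coe_set_eq] at this
    exact this
  have h12 : Nat.card (D S r) ≤ 6 := by
    rw [← h10]
    calc _ ≤ 2 * 3 := Nat.mul_le_mul h11 h9
      _ = 6 := by norm_num
  have h13 : Nat.card (M S r) ≤ Nat.card (D S r : Set G) := by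
    rw [Nat.card_coe_set_eq, Nat.card_coe_set_eq]
    exact Set.ncard_le_ncard M_sub_D (Set.toFinite _)
  exact h13.trans h12

/-- Second kind: involutions commuting with no involution of `S`. -/
theorem inter_two [Finite G] (hF : Fus G) (S : Sylow 2 G) {r : G} (hr : orderOf r = 2)
    (hno : ∀ v ∈ S, v ≠ 1 → r * v ≠ v * r) {x : G} (hx : x ∈ S) (hxD : x ∈ D S r) : x = 1 := by
  by_contra hx1
  have hr2 := (orderOf_two_iff.1 hr).1
  have hri : r⁻¹ = r := inv_eq_of_mul_eq_one_left hr2
  have hx' := conj_S hF hx (mem_D.1 hxD).2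
  rw [hri] at hx'
  have hcom := comm hF S hx hx'
  have hyS : x * (r * x * r) ∈ S := S.mul_mem hx hx'
  have hyr : r * (x * (r * x * r)) = (x * (r * x * r)) * r := by
    calc r * (x * (r * x * r)) = (r * x * r) * x * r := by group
      _ = x * (r * x * r) * r := by rw [hcom]
  by_cases hy1 : x * (r * x * r) = 1
  · have hxx := hF.sq S x hx
    have h1 : r * x * r = x := by
      calc r * x * r = (x * x) * (r * x * r) := by rw [hxx]; group
        _ = x * (x * (r * x * r)) := by group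
        _ = x := by rw [hy1, mul_one]
    have h2 : r * x = x * r := by
      calc r * x = r * x * (r * r) := by rw [hr2, mul_one]
        _ = (r * x * r) * r := by group
        _ = x * r := by rw [h1]
    exact hno x hx hx1 h2
  · exact hno _ hyS hy1 hyr

theorem D_card_two [Finite G] (hF : Fus G) (S : Sylow 2 G) {r : G} (hr : orderOf r = 2)
    (hno : ∀ v ∈ S, v ≠ 1 → r * v ≠ v * r) : Nat.card (D S r) ∣ 21 := by
  have h10 := card_mul_relIndex S (D S r)
  have h11 : Nat.card ((S : Subgroup G) ⊓ D S r : Subgroup G) = 1 := by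
    rw [Subgroup.card_eq_one, eq_bot_iff]
    intro x hx
    rw [Subgroup.mem_bot]
    exact inter_two hF S hr hno hx.1 hx.2
  rw [h11, one_mul] at h10
  rw [← h10, ← relIndex_S_N hF S]
  have hDN : D S r ≤ N S := inf_le_left
  rw [← Subgroup.relIndex_subgroupOf hDN]
  have : ((S : Subgroup G).subgroupOf (N S)).Normal := Subgroup.normal_in_normalizer
  exact Subgroup.relIndex_dvd_index_of_normal _ _

/-- An element of order 3 normalising `S` centralises an involution of `S`. -/
theorem three_fix [Finite G] (hF : Fus G) (S : Sylow 2 G) {h : G} (hh : h ∈ N S) (h3 : h ^ 3 = 1) :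
    ∃ v ∈ S, v ≠ 1 ∧ h * v = v * h := by
  classical
  have hfin : Fintype (S : Subgroup G) := Fintype.ofFinite _
  let f : Function.End (S : Subgroup G) := fun x => ⟨h * x * h⁻¹, conj_mem S hh x.2⟩
  have hf : f ^ 3 ^ 1 = 1 := by
    funext x
    apply Subtype.ext
    have e : (f ^ 3 ^ 1) x = f (f (f x)) := rfl
    rw [e]
    show h * (h * (h * x * h⁻¹) * h⁻¹) * h⁻¹ = (x : G)
    have e3 : h * (h * (h * (x : G) * h⁻¹) * h⁻¹) * h⁻¹ = h ^ 3 * x * (h ^ 3)⁻¹ := by
      simp only [pow_succ, pow_zero, one_mul, mul_inv_rev, mul_assoc]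
    rw [e3, h3, inv_one, mul_one, one_mul]
  have hp : Fact (Nat.Prime 3) := ⟨Nat.prime_three⟩
  have key := Equiv.Perm.card_fixedPoints_modEq (p := 3) (n := 1) hf
  have h8 : Fintype.card (S : Subgroup G) = 8 := by
    rw [← Nat.card_eq_fintype_card]
    exact hF.card8 S
  rw [h8] at key
  have hone : f 1 = 1 := by
    apply Subtype.ext
    show h * 1 * h⁻¹ = 1
    group
  have hlt : 1 < Fintype.card (Function.fixedPoints f) := by
    by_contra hcon
    have hpos : 0 < Fintype.card (Function.fixedPoints f) :=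
      Fintype.card_pos_iff.2 ⟨⟨1, hone⟩⟩
    have : Fintype.card (Function.fixedPoints f) = 1 := by omega
    rw [this] at key
    revert key
    decide
  obtain ⟨x, hx⟩ := Fintype.exists_ne_of_one_lt_card hlt ⟨1, hone⟩
  refine ⟨x.1, x.1.2, ?_, ?_⟩
  · intro hx1
    apply hx
    apply Subtype.ext
    apply Subtype.ext
    exact hx1
  · have := congrArg Subtype.val x.2
    exact mul_inv_eq_iff_eq_mul.1 this

theorem no_three [Finite G] (hF : Fus G) (hS : Defs.Small G) (S : Sylow 2 G) {r : G} (hr : orderOf r = 2)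
    (hno : ∀ v ∈ S, v ≠ 1 → r * v ≠ v * r) {h : G} (hh : h ∈ N S) (hrh : r * h * r⁻¹ = h⁻¹)
    (h3 : orderOf h = 3) : False := by
  have hh3 : h ^ 3 = 1 := by rw [← h3]; exact pow_orderOf_eq_one h
  obtain ⟨v, hv, hv1, hhv⟩ := three_fix hF S hh hh3
  have hvo := orderOf_mem hF S hv hv1
  have hvv := hF.sq S v hv
  have hc := hS v h hvo hhv.symm (Or.inl h3)
  rw [h3] at hc
  have hr2 := (orderOf_two_iff.1 hr).1
  have hri : r⁻¹ = r := inv_eq_of_mul_eq_one_left hr2
  rw [hri] at hrh
  set C := Subgroup.centralizer ({h} : Set G) with hC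
  have hZC : Subgroup.zpowers h ≤ C := by
    rw [Subgroup.zpowers_le]
    exact mem_cent.2 rfl
  have hidx : ((Subgroup.zpowers h).subgroupOf C).index = 2 := by
    have h1 := Subgroup.relIndex_mul_relIndex (⊥ : Subgroup G) (Subgroup.zpowers h) C bot_le hZC
    rw [Subgroup.relIndex_bot_left, Subgroup.relIndex_bot_left, Nat.card_zpowers, h3, hc] at h1
    have h2 : (Subgroup.zpowers h).relIndex C = 2 := by omega
    exact h2
  -- v' = r v r
  have hvC : v ∈ C := mem_cent.2 hhv.symm
  have hv'C : r * v * r ∈ C := by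
    rw [mem_cent]
    have e1 : h = r * h⁻¹ * r := by
      calc h = (r * r) * h * (r * r) := by rw [hr2]; group
        _ = r * (r * h * r) * r := by group
        _ = r * h⁻¹ * r := by rw [hrh]
    have e2 : v * h⁻¹ = h⁻¹ * v := by
      have : Commute h v := hhv
      exact (this.inv_left.eq).symm
    calc r * v * r * h = r * v * r * (r * h⁻¹ * r) := by rw [← e1]
      _ = r * v * (r * r) * h⁻¹ * r := by group
      _ = r * (v * h⁻¹) * r := by rw [hr2]; group
      _ = r * (h⁻¹ * v) * r := by rw [e2]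
      _ = r * h⁻¹ * 1 * v * r := by group
      _ = r * h⁻¹ * (r * r) * v * r := by rw [hr2]
      _ = (r * h⁻¹ * r) * (r * v * r) := by group
      _ = h * (r * v * r) := by rw [← e1]
  have hv'2 : (r * v * r) * (r * v * r) = 1 := by
    calc (r * v * r) * (r * v * r) = r * v * (r * r) * v * r := by group
      _ = r * (v * v) * r := by rw [hr2]; group
      _ = 1 := by rw [hvv, mul_one, hr2]
  have hv'1 : r * v * r ≠ 1 := by
    intro h0
    apply hv1
    calc v = (r * r) * v * (r * r) := by rw [hr2]; group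
      _ = r * (r * v * r) * r := by group
      _ = 1 := by rw [h0, mul_one, hr2]
  -- involutions are not in ⟨h⟩
  have hodd : ∀ w : G, w * w = 1 → w ∈ Subgroup.zpowers h → w = 1 := by
    intro w hw hwz
    by_contra hw1
    have ho : orderOf w = 2 := orderOf_two_iff.2 ⟨hw, hw1⟩
    have hd : orderOf w ∣ Nat.card (Subgroup.zpowers h) := Subgroup.orderOf_dvd_natCard _ hwz
    rw [Nat.card_zpowers, h3, ho] at hd
    revert hd
    decide
  have hvZ : (⟨v, hvC⟩ : C) ∉ (Subgroup.zpowers h).subgroupOf C := by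
    intro h0
    rw [Subgroup.mem_subgroupOf] at h0
    exact hv1 (hodd v hvv h0)
  have hv'Z : (⟨r * v * r, hv'C⟩ : C) ∉ (Subgroup.zpowers h).subgroupOf C := by
    intro h0
    rw [Subgroup.mem_subgroupOf] at h0
    exact hv'1 (hodd _ hv'2 h0)
  have hprod : (⟨v, hvC⟩ : C) * ⟨r * v * r, hv'C⟩ ∈ (Subgroup.zpowers h).subgroupOf C := by
    rw [Subgroup.mul_mem_iff_of_index_two hidx]
    exact ⟨fun h0 => absurd h0 hvZ, fun h0 => absurd h0 hv'Z⟩
  rw [Subgroup.mem_subgroupOf] at hprod
  have hprod' : v * (r * v * r) ∈ Subgroup.zpowers h := hprod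
  -- v commutes with v v'
  have hcv : v * (v * (r * v * r)) = (v * (r * v * r)) * v := by
    obtain ⟨k, hk⟩ := Subgroup.mem_zpowers_iff.1 hprod'
    rw [← hk]
    have : Commute v h := hhv.symm
    exact (this.zpow_right k).eq
  have hcv' : v * (r * v * r) = (r * v * r) * v := by
    calc v * (r * v * r) = (v * v) * (v * (r * v * r)) := by rw [hvv, one_mul]
      _ = v * (v * (v * (r * v * r))) := by group
      _ = v * (v * (r * v * r) * v) := by rw [hcv]
      _ = (v * v) * ((r * v * r) * v) := by group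
      _ = (r * v * r) * v := by rw [hvv, one_mul]
  have hsq : (v * (r * v * r)) * (v * (r * v * r)) = 1 := by
    calc (v * (r * v * r)) * (v * (r * v * r)) = v * ((r * v * r) * v) * (r * v * r) := by group
      _ = v * (v * (r * v * r)) * (r * v * r) := by rw [hcv']
      _ = (v * v) * ((r * v * r) * (r * v * r)) := by group
      _ = 1 := by rw [hvv, hv'2, one_mul]
  have hone := hodd _ hsq hprod'
  have heq : r * v * r = v := by
    calc r * v * r = (v * v) * (r * v * r) := by rw [hvv, one_mul]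
      _ = v * (v * (r * v * r)) := by group
      _ = v := by rw [hone, mul_one]
  apply hno v hv hv1
  calc r * v = r * v * (r * r) := by rw [hr2, mul_one]
    _ = (r * v * r) * r := by group
    _ = v * r := by rw [heq]

theorem order_seven [Finite G] (hF : Fus G) (hS : Defs.Small G) (S : Sylow 2 G) {r : G} (hr : orderOf r = 2)
    (hno : ∀ v ∈ S, v ≠ 1 → r * v ≠ v * r) {h : G} (hh : h ∈ M S r) (h1 : h ≠ 1) : orderOf h = 7 := by
  have hd : orderOf h ∣ 21 :=
    (Subgroup.orderOf_dvd_natCard _ (M_sub_D hh)).trans (D_card_two hF S hr hno)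
  have hmem : orderOf h ∈ Nat.divisors 21 := Nat.mem_divisors.2 ⟨hd, by norm_num⟩
  have hdiv : Nat.divisors 21 = {1, 3, 7, 21} := by decide
  rw [hdiv] at hmem
  simp only [Finset.mem_insert, Finset.mem_singleton] at hmem
  rcases hmem with h0 | h0 | h0 | h0
  · exact absurd (orderOf_eq_one_iff.1 h0) h1
  · exact (no_three hF hS S hr hno hh.1 hh.2 h0).elim
  · exact h0
  · exfalso
    have h7 : orderOf (h ^ 7) = 3 := by
      rw [orderOf_pow, h0]
      decide
    refine no_three hF hS S hr hno (h := h ^ 7) ((N S).pow_mem hh.1 7) ?_ h7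
    have : r * h ^ 7 * r⁻¹ = (r * h * r⁻¹) ^ 7 := by
      rw [conj_pow]
    rw [this, hh.2, inv_pow]

theorem M_sub_zpowers [Finite G] (hF : Fus G) (hS : Defs.Small G) (S : Sylow 2 G) {r : G} (hr : orderOf r = 2)
    (hno : ∀ v ∈ S, v ≠ 1 → r * v ≠ v * r) {h : G} (hh : h ∈ M S r) (h1 : h ≠ 1) :
    M S r ⊆ (Subgroup.zpowers h : Set G) := by
  intro k hk
  by_cases hk1 : k = 1
  · rw [hk1]; exact (Subgroup.zpowers h).one_mem
  have ho := order_seven hF hS S hr hno hh h1
  have hko := order_seven hF hS S hr hno hk hk1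
  have hD := D_card_two hF S hr hno
  have hhD : Subgroup.zpowers h ≤ D S r := Subgroup.zpowers_le.2 (M_sub_D hh)
  have hkD : Subgroup.zpowers k ≤ D S r := Subgroup.zpowers_le.2 (M_sub_D hk)
  have h5 := Subgroup.relIndex_mul_relIndex (⊥ : Subgroup G) (Subgroup.zpowers h) (D S r) bot_le hhD
  rw [Subgroup.relIndex_bot_left, Subgroup.relIndex_bot_left, Nat.card_zpowers, ho] at h5
  have hle := Nat.le_of_dvd (by norm_num) hD
  have hpos : 0 < Nat.card (D S r) := Nat.card_pos
  have h6 : (Subgroup.zpowers h).relIndex (D S r) ≤ 3 := by omega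
  have h7 : (Subgroup.zpowers h).relIndex (D S r) ≠ 0 := by
    intro h0
    rw [h0] at h5
    omega
  have h8 : (Subgroup.zpowers h).relIndex (Subgroup.zpowers k) ≤ 3 :=
    (Subgroup.relIndex_le_of_le_right hkD h7).trans h6
  have h9 : (Subgroup.zpowers h).relIndex (Subgroup.zpowers k) ∣ 7 := by
    have := Subgroup.relIndex_dvd_card (Subgroup.zpowers h) (Subgroup.zpowers k)
    rwa [Nat.card_zpowers, hko] at this
  have h10 : (Subgroup.zpowers h).relIndex (Subgroup.zpowers k) = 1 := by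
    rcases (Nat.dvd_prime (by norm_num)).1 h9 with h0 | h0
    · exact h0
    · omega
  rw [Subgroup.relIndex_eq_one] at h10
  exact h10 (Subgroup.mem_zpowers k)

theorem M_card_two [Finite G] (hF : Fus G) (hS : Defs.Small G) (S : Sylow 2 G) {r : G} (hr : orderOf r = 2)
    (hno : ∀ v ∈ S, v ≠ 1 → r * v ≠ v * r) : Nat.card (M S r) ≤ 7 := by
  by_cases h : ∃ h ∈ M S r, h ≠ 1
  · obtain ⟨h, hh, h1⟩ := h
    have h13 : Nat.card (M S r) ≤ Nat.card (Subgroup.zpowers h : Set G) := by
      rw [Nat.card_coe_set_eq, Nat.card_coe_set_eq]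
      exact Set.ncard_le_ncard (M_sub_zpowers hF hS S hr hno hh h1) (Set.toFinite _)
    refine h13.trans ?_
    show Nat.card (Subgroup.zpowers h) ≤ 7
    rw [Nat.card_zpowers, order_seven hF hS S hr hno hh h1]
  · push Not at h
    have hsub : M S r ⊆ {1} := fun x hx => h x hx
    have := Set.ncard_le_ncard hsub (Set.toFinite _)
    rw [Set.ncard_singleton] at this
    rw [Nat.card_coe_set_eq]
    omega

end Cfsg.Agent.SporadicB.J1Local.CountFibre
end

-- part: SporadicB/J1Local/CountUpper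
section
/-!
Upper bound for the number of involutions of a group of type `J1` in the small case (Bender's method with
`H = N(S)`, `S` a Sylow 2-subgroup).
-/

set_option autoImplicit false

namespace Cfsg.Agent.SporadicB.J1Local.CountUpper

open Cfsg.Agent.SporadicB.J1Local.Defs Cfsg.Agent.SporadicB.J1Local.CountBasic
  Cfsg.Agent.SporadicB.J1Local.CountSylow Cfsg.Agent.SporadicB.J1Local.CountFibre

/-- Abstract weighted count: if the fibres of `f` over `f r` have size `m r`, then the number of fibres is the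
sum of the inverses of `m`. -/
theorem sum_inv_fibre {α β : Type*} [DecidableEq β] (A : Finset α) (f : α → β) (m : α → ℕ)
    (hm : ∀ a ∈ A, (A.filter (fun b => f b = f a)).card = m a) :
    ∑ a ∈ A, (1 / (m a : ℚ)) = ((A.image f).card : ℚ) := by
  classical
  rw [← Finset.sum_fiberwise_of_maps_to (t := A.image f) (g := f)
    (fun a ha => Finset.mem_image_of_mem f ha)]
  rw [Finset.card_eq_sum_ones, Nat.cast_sum]
  refine Finset.sum_congr rfl ?_
  intro b hb
  obtain ⟨a, ha, rfl⟩ := Finset.mem_image.1 hb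
  have hcard := hm a ha
  have h1 : ∀ x ∈ A.filter (fun x => f x = f a), (1 / (m x : ℚ)) = 1 / (m a : ℚ) := by
    intro x hx
    rw [Finset.mem_filter] at hx
    rw [← hm x hx.1, ← hm a ha, hx.2]
  rw [Finset.sum_congr rfl h1, Finset.sum_const, hcard, nsmul_eq_mul]
  have hpos : 0 < m a := by
    rw [← hcard]
    exact Finset.card_pos.2 ⟨a, Finset.mem_filter.2 ⟨ha, rfl⟩⟩
  have : (m a : ℚ) ≠ 0 := by exact_mod_cast hpos.ne'
  rw [mul_one_div_cancel this, Nat.cast_one]

/-- Abstract inequality. -/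
theorem card_sub_image_le {α β : Type*} [DecidableEq β] (A : Finset α) (f : α → β) (m : α → ℕ)
    (hm : ∀ a ∈ A, (A.filter (fun b => f b = f a)).card = m a) (R1 R2 : Finset α)
    (h1 : ∀ a ∈ A, a ∈ R1 → m a ≤ 6) (h2 : ∀ a ∈ A, a ∉ R1 → a ∈ R2 → m a ≤ 7)
    (h3 : ∀ a ∈ A, a ∉ R1 → a ∉ R2 → m a ≤ 1) :
    (A.card : ℚ) ≤ (A.image f).card + 5 / 6 * R1.card + 6 / 7 * R2.card := by
  classical
  have key : ∀ a ∈ A, (1 : ℚ) ≤ 1 / (m a : ℚ) + ((if a ∈ R1 then 5 / 6 else 0) + (if a ∈ R2 then 6 / 7 else 0)) := by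
    intro a ha
    have hpos : 0 < m a := by
      rw [← hm a ha]
      exact Finset.card_pos.2 ⟨a, Finset.mem_filter.2 ⟨ha, rfl⟩⟩
    have hpos' : (0 : ℚ) < m a := by exact_mod_cast hpos
    by_cases hr1 : a ∈ R1
    · have hle : (m a : ℚ) ≤ 6 := by exact_mod_cast h1 a ha hr1
      have : (1 : ℚ) / 6 ≤ 1 / (m a : ℚ) := one_div_le_one_div_of_le hpos' hle
      rw [if_pos hr1]
      split_ifs <;> linarith
    · by_cases hr2 : a ∈ R2
      · have hle : (m a : ℚ) ≤ 7 := by exact_mod_cast h2 a ha hr1 hr2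
        have : (1 : ℚ) / 7 ≤ 1 / (m a : ℚ) := one_div_le_one_div_of_le hpos' hle
        rw [if_neg hr1, if_pos hr2]
        linarith
      · have hle : (m a : ℚ) ≤ 1 := by exact_mod_cast h3 a ha hr1 hr2
        have : (1 : ℚ) / 1 ≤ 1 / (m a : ℚ) := one_div_le_one_div_of_le hpos' hle
        rw [if_neg hr1, if_neg hr2]
        linarith
  have hsum := Finset.sum_le_sum key
  rw [Finset.sum_add_distrib, Finset.sum_add_distrib, sum_inv_fibre A f m hm, Finset.sum_const, nsmul_eq_mul,
    mul_one] at hsum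
  have e1 : ∑ a ∈ A, (if a ∈ R1 then (5 / 6 : ℚ) else 0) ≤ 5 / 6 * R1.card := by
    rw [← Finset.sum_filter, Finset.sum_const, nsmul_eq_mul, mul_comm]
    have : (A.filter (fun a => a ∈ R1)).card ≤ R1.card :=
      Finset.card_le_card (fun a ha => (Finset.mem_filter.1 ha).2)
    have : ((A.filter (fun a => a ∈ R1)).card : ℚ) ≤ R1.card := by exact_mod_cast this
    linarith
  have e2 : ∑ a ∈ A, (if a ∈ R2 then (6 / 7 : ℚ) else 0) ≤ 6 / 7 * R2.card := by
    rw [← Finset.sum_filter, Finset.sum_const, nsmul_eq_mul, mul_comm]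
    have : (A.filter (fun a => a ∈ R2)).card ≤ R2.card :=
      Finset.card_le_card (fun a ha => (Finset.mem_filter.1 ha).2)
    have : ((A.filter (fun a => a ∈ R2)).card : ℚ) ≤ R2.card := by exact_mod_cast this
    linarith
  linarith

variable {G : Type*} [Group G]

/-- The fibre of `r` under the projection to `G ⧸ N(S)` has the size of the set of inverted elements. -/
theorem fibre_card [Finite G] (S : Sylow 2 G) {r : G} (hr : orderOf r = 2) (hrN : r ∉ N S) :
    Nat.card {t : G // (orderOf t = 2 ∧ t ∉ N S) ∧ (t : G ⧸ N S) = (r : G ⧸ N S)} = Nat.card (M S r) := by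
  have hr2 := (orderOf_two_iff.1 hr).1
  have hri : r⁻¹ = r := inv_eq_of_mul_eq_one_left hr2
  refine Nat.card_congr ?_
  refine
    { toFun := fun t => ⟨r * t.1, ?_, ?_⟩
      invFun := fun h => ⟨r * h.1, ⟨?_, ?_⟩, ?_⟩
      left_inv := ?_
      right_inv := ?_ }
  · have h := QuotientGroup.eq.1 t.2.2
    have h' := (N S).inv_mem h
    rw [mul_inv_rev, inv_inv, hri] at h'
    exact h'
  · have ht2 := (orderOf_two_iff.1 t.2.1.1).1
    have hti : t.1⁻¹ = t.1 := inv_eq_of_mul_eq_one_left ht2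
    rw [mul_inv_rev, hti, hri]
    calc r * (r * t.1) * r = (r * r) * t.1 * r := by group
      _ = t.1 * r := by rw [hr2, one_mul]
  · rw [orderOf_two_iff]
    constructor
    · have h := h.2.2
      rw [hri] at h
      rename_i k
      calc r * k.1 * (r * k.1) = (r * k.1 * r) * k.1 := by group
        _ = 1 := by rw [h, inv_mul_cancel]
    · intro h0
      apply hrN
      have : r = h.1⁻¹ := eq_inv_of_mul_eq_one_left h0
      rw [this]
      exact (N S).inv_mem h.2.1
  · intro h0
    apply hrN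
    have h1 := (N S).mul_mem h0 ((N S).inv_mem h.2.1)
    rwa [mul_inv_cancel_right] at h1
  · rw [QuotientGroup.eq, mul_inv_rev, hri, mul_assoc, hr2, mul_one]
    exact (N S).inv_mem h.2.1
  · intro t
    apply Subtype.ext
    show r * (r * t.1) = t.1
    rw [← mul_assoc, hr2, one_mul]
  · intro h
    apply Subtype.ext
    show r * (r * h.1) = h.1
    rw [← mul_assoc, hr2, one_mul]

/-- Number of involutions outside `N(S)` commuting with a given involution of `S`. -/
theorem comm_card [Finite G] (hF : Fus G) (S : Sylow 2 G) {v : G} (hv : v ∈ S) (hv1 : v ≠ 1) :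
    Nat.card {t : G // (orderOf t = 2 ∧ t ∉ N S) ∧ t * v = v * t} = 24 := by
  classical
  have h31 := cent_invol hF v (orderOf_mem hF S hv hv1)
  have h7 := card_invol_N hF S
  have h := Nat.card_congr (Equiv.sumCompl
    (fun t : {y : G // orderOf y = 2 ∧ y * v = v * y} => t.1 ∈ N S))
  rw [Nat.card_sum, h31] at h
  have e1 : Nat.card {t : {y : G // orderOf y = 2 ∧ y * v = v * y} // t.1 ∈ N S} = 7 := by
    rw [← h7]
    refine Nat.card_congr ?_
    refine
      { toFun := fun t => ⟨t.1.1, t.1.2.1, t.2⟩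
        invFun := fun t => ⟨⟨t.1, t.2.1, ?_⟩, t.2.2⟩
        left_inv := fun t => rfl
        right_inv := fun t => rfl }
    exact comm hF S (invol_mem S t.2.2 (orderOf_two_iff.1 t.2.1).1) hv
  have e2 : Nat.card {t : {y : G // orderOf y = 2 ∧ y * v = v * y} // ¬ t.1 ∈ N S} =
      Nat.card {t : G // (orderOf t = 2 ∧ t ∉ N S) ∧ t * v = v * t} :=
    Nat.card_congr
      { toFun := fun t => ⟨t.1.1, ⟨t.1.2.1, t.2⟩, t.1.2.2⟩
        invFun := fun t => ⟨⟨t.1, t.2.1.1, t.2.2⟩, t.2.1.2⟩
        left_inv := fun t => rfl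
        right_inv := fun t => rfl }
  rw [e1, e2] at h
  omega

theorem card_seven {H : Type*} [Group H] [Finite H] (hc : Nat.card H = 168) [Fact (Nat.Prime 7)] (P : Sylow 7 H) :
    Nat.card P = 7 := by
  rw [P.card_eq_multiplicity, hc]
  have : Nat.factorization 168 7 = 1 := by
    have h168 : (168 : ℕ) = 7 * 24 := by norm_num
    rw [h168, Nat.factorization_mul (by norm_num) (by norm_num)]
    have h7 : Nat.Prime 7 := by norm_num
    rw [h7.factorization]
    have : Nat.factorization 24 7 = 0 := Nat.factorization_eq_zero_of_not_dvd (by norm_num)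
    simp [this]
  rw [this]
  norm_num

/-- The number of Sylow 7-subgroups of a group of order 168 is at most 8. -/
theorem card_sylow_seven {H : Type*} [Group H] [Finite H] (hc : Nat.card H = 168) :
    Nat.card (Sylow 7 H) ≤ 8 := by
  have hp : Fact (Nat.Prime 7) := ⟨by norm_num⟩
  have h1 := card_sylow_modEq_one 7 H
  obtain ⟨P⟩ : Nonempty (Sylow 7 H) := inferInstance
  have h2 := P.card_dvd_index
  have h3 := card_seven hc P
  have h4 := Subgroup.card_mul_index (P : Subgroup H)
  have h3' : Nat.card (P : Subgroup H) = 7 := h3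
  rw [h3', hc] at h4
  have h5 : (P : Subgroup H).index = 24 := by omega
  rw [h5] at h2
  have h6 : Nat.card (Sylow 7 H) ∈ Nat.divisors 24 := Nat.mem_divisors.2 ⟨h2, by norm_num⟩
  have h7 : Nat.divisors 24 = {1, 2, 3, 4, 6, 8, 12, 24} := by decide
  rw [h7] at h6
  simp only [Finset.mem_insert, Finset.mem_singleton] at h6
  rcases h6 with h | h | h | h | h | h | h | h <;> rw [h] at h1 ⊢ <;> first | omega | (revert h1; decide)
/-- The involutions inverting all elements of a subgroup of `N(S)`. -/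
def Inv (S : Sylow 2 G) (P : Subgroup (N S)) : Set G :=
  {u | orderOf u = 2 ∧ ∀ p ∈ P, u * (p : G) * u⁻¹ = (p : G)⁻¹}

theorem inv_zpowers (u x : G) (h : u * x * u⁻¹ = x⁻¹) (y : G) (hy : y ∈ Subgroup.zpowers x) :
    u * y * u⁻¹ = y⁻¹ := by
  obtain ⟨k, rfl⟩ := Subgroup.mem_zpowers_iff.1 hy
  have : u * x ^ k * u⁻¹ = (u * x * u⁻¹) ^ k := by rw [conj_zpow]
  rw [this, h, inv_zpow]

/-- The Sylow 7-subgroup generated by an element of order 7. -/
theorem exists_sylow_zpowers [Finite G] (hF : Fus G) (S : Sylow 2 G) [Fact (Nat.Prime 7)] {z : G}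
    (hz : orderOf z = 7) (hzN : z ∈ N S) :
    ∃ P : Sylow 7 (N S), (P : Subgroup (N S)) = Subgroup.zpowers (⟨z, hzN⟩ : N S) := by
  have ho : orderOf (⟨z, hzN⟩ : N S) = 7 := by
    rw [← hz]
    exact Subgroup.orderOf_mk z hzN
  have hp : IsPGroup 7 (Subgroup.zpowers (⟨z, hzN⟩ : N S)) := by
    apply IsPGroup.of_card (n := 1)
    rw [Nat.card_zpowers, ho, pow_one]
  obtain ⟨P, hP⟩ := hp.exists_le_sylow
  refine ⟨P, ?_⟩
  symm
  apply Subgroup.eq_of_le_of_card_ge hP
  have h7 : Nat.card (P : Subgroup (N S)) = 7 := card_seven (card_N hF S) P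
  rw [h7, Nat.card_zpowers, ho]

open scoped Pointwise in
theorem inv_card [Finite G] (hF : Fus G) (S : Sylow 2 G) [Fact (Nat.Prime 7)] {z : G}
    (hz : orderOf z = 7) (hzN : z ∈ N S) (P : Sylow 7 (N S)) :
    Nat.card (Inv S (P : Subgroup (N S))) = Nat.card {u : G // orderOf u = 2 ∧ u * z * u⁻¹ = z⁻¹} := by
  obtain ⟨P0, hP0⟩ := exists_sylow_zpowers hF S hz hzN
  obtain ⟨g, hg⟩ := MulAction.exists_smul_eq (N S) P0 P
  have hmem : ∀ x : N S, x ∈ (P0 : Subgroup (N S)) ↔ g * x * g⁻¹ ∈ (P : Subgroup (N S)) := by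
    intro x
    have hPe : (P : Subgroup (N S)) = MulAut.conj g • (P0 : Subgroup (N S)) := by
      rw [← hg]
      rfl
    rw [hPe, Subgroup.mem_pointwise_smul_iff_inv_smul_mem]
    have : (MulAut.conj g)⁻¹ • (g * x * g⁻¹) = x := by
      rw [← map_inv]
      show g⁻¹ * (g * x * g⁻¹) * g⁻¹⁻¹ = x
      group
    rw [this]
  refine Nat.card_congr ?_
  refine
    { toFun := fun u => ⟨(g : G)⁻¹ * u.1 * g, ?_, ?_⟩
      invFun := fun u => ⟨(g : G) * u.1 * (g : G)⁻¹, ?_, ?_⟩
      left_inv := ?_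
      right_inv := ?_ }
  · have h := orderOf_two_iff.1 u.2.1
    rw [orderOf_two_iff]
    constructor
    · calc (g : G)⁻¹ * u.1 * g * ((g : G)⁻¹ * u.1 * g) = (g : G)⁻¹ * (u.1 * u.1) * g := by group
        _ = 1 := by rw [h.1]; group
    · intro h0
      apply h.2
      calc u.1 = (g : G) * ((g : G)⁻¹ * u.1 * g) * (g : G)⁻¹ := by group
        _ = 1 := by rw [h0]; group
  · have hz0 : (⟨z, hzN⟩ : N S) ∈ (P0 : Subgroup (N S)) := by
      rw [hP0]; exact Subgroup.mem_zpowers _
    have h := u.2.2 _ ((hmem _).1 hz0)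
    have h' : u.1 * ((g : G) * z * (g : G)⁻¹) * u.1⁻¹ = ((g : G) * z * (g : G)⁻¹)⁻¹ := h
    calc (g : G)⁻¹ * u.1 * g * z * ((g : G)⁻¹ * u.1 * g)⁻¹
        = (g : G)⁻¹ * (u.1 * ((g : G) * z * (g : G)⁻¹) * u.1⁻¹) * g := by group
      _ = (g : G)⁻¹ * ((g : G) * z * (g : G)⁻¹)⁻¹ * g := by rw [h']
      _ = z⁻¹ := by group
  · have h := orderOf_two_iff.1 u.2.1
    rw [orderOf_two_iff]
    constructor
    · calc (g : G) * u.1 * (g : G)⁻¹ * ((g : G) * u.1 * (g : G)⁻¹) = (g : G) * (u.1 * u.1) * (g : G)⁻¹ := by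
            group
        _ = 1 := by rw [h.1]; group
    · intro h0
      apply h.2
      calc u.1 = (g : G)⁻¹ * ((g : G) * u.1 * (g : G)⁻¹) * g := by group
        _ = 1 := by rw [h0]; group
  · intro p hp
    have hp' : g⁻¹ * p * g ∈ (P0 : Subgroup (N S)) := by
      rw [hmem]
      have : g * (g⁻¹ * p * g) * g⁻¹ = p := by group
      rw [this]
      exact hp
    rw [hP0] at hp'
    have hp'' : (g : G)⁻¹ * (p : G) * (g : G) ∈ Subgroup.zpowers z := by
      obtain ⟨k, hk⟩ := Subgroup.mem_zpowers_iff.1 hp'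
      rw [Subgroup.mem_zpowers_iff]
      refine ⟨k, ?_⟩
      have := congrArg Subtype.val hk
      simpa using this
    have h := inv_zpowers u.1 z u.2.2 _ hp''
    calc (g : G) * u.1 * (g : G)⁻¹ * p * ((g : G) * u.1 * (g : G)⁻¹)⁻¹
        = (g : G) * (u.1 * ((g : G)⁻¹ * (p : G) * (g : G)) * u.1⁻¹) * (g : G)⁻¹ := by group
      _ = (g : G) * ((g : G)⁻¹ * (p : G) * (g : G))⁻¹ * (g : G)⁻¹ := by rw [h]
      _ = (p : G)⁻¹ := by group
  · intro u
    apply Subtype.ext
    show (g : G) * ((g : G)⁻¹ * u.1 * g) * (g : G)⁻¹ = u.1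
    group
  · intro u
    apply Subtype.ext
    show (g : G)⁻¹ * ((g : G) * u.1 * (g : G)⁻¹) * g = u.1
    group

/-- **Upper bound** for the number of involutions in the small case. -/
theorem upper [Finite G] (hF : Fus G) (hS : Defs.Small G) (S : Sylow 2 G) (z : G) (hz : orderOf z = 7)
    (hzH : z ∈ Subgroup.normalizer ((S : Subgroup G) : Set G)) :
    Nat.card {x : G // orderOf x = 2} ≤ 511 + 24 * Nat.card {u : G // orderOf u = 2 ∧ u * z * u⁻¹ = z⁻¹} := by
  classical
  have hfin : Fintype G := Fintype.ofFinite G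
  have hp7 : Fact (Nat.Prime 7) := ⟨by norm_num⟩
  set n := Nat.card {u : G // orderOf u = 2 ∧ u * z * u⁻¹ = z⁻¹} with hn
  let A : Finset G := Finset.univ.filter (fun t => orderOf t = 2 ∧ t ∉ N S)
  let f : G → G ⧸ N S := fun t => (t : G ⧸ N S)
  let m : G → ℕ := fun r => Nat.card (M S r)
  let R1 : Finset G := Finset.univ.filter (fun t => (orderOf t = 2 ∧ t ∉ N S) ∧ ∃ v ∈ S, v ≠ 1 ∧ t * v = v * t)
  let R2 : Finset G := Finset.univ.filter (fun t => (orderOf t = 2 ∧ t ∉ N S) ∧
    (∀ v ∈ S, v ≠ 1 → t * v ≠ v * t) ∧ ∃ h ∈ M S t, h ≠ 1)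
  have hm : ∀ a ∈ A, (A.filter (fun b => f b = f a)).card = m a := by
    intro a ha
    have ha' := (Finset.mem_filter.1 ha).2
    show _ = Nat.card (M S a)
    rw [← fibre_card S ha'.1 ha'.2, Finset.filter_filter, Nat.card_eq_fintype_card, Fintype.card_subtype]
  have h1 : ∀ a ∈ A, a ∈ R1 → m a ≤ 6 := by
    intro a ha haR
    obtain ⟨⟨h2, hN⟩, v, hv, hv1, hc⟩ := (Finset.mem_filter.1 haR).2
    exact M_card_one hF S h2 hN hv hv1 hc
  have hA2 : ∀ a ∈ A, a ∉ R1 → ∀ v ∈ S, v ≠ 1 → a * v ≠ v * a := by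
    intro a ha haR v hv hv1 hc
    exact haR (Finset.mem_filter.2 ⟨Finset.mem_univ _, (Finset.mem_filter.1 ha).2, v, hv, hv1, hc⟩)
  have h2 : ∀ a ∈ A, a ∉ R1 → a ∈ R2 → m a ≤ 7 := by
    intro a ha haR _
    exact M_card_two hF hS S (Finset.mem_filter.1 ha).2.1 (hA2 a ha haR)
  have h3 : ∀ a ∈ A, a ∉ R1 → a ∉ R2 → m a ≤ 1 := by
    intro a ha haR haR2
    have hall : ∀ h ∈ M S a, h = 1 := by
      intro h hh
      by_contra hne
      exact haR2 (Finset.mem_filter.2
        ⟨Finset.mem_univ _, (Finset.mem_filter.1 ha).2, hA2 a ha haR, h, hh, hne⟩)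
    have hsub : M S a ⊆ {1} := fun x hx => hall x hx
    have := Set.ncard_le_ncard hsub (Set.toFinite _)
    rw [Set.ncard_singleton] at this
    show Nat.card (M S a) ≤ 1
    rw [Nat.card_coe_set_eq]
    exact this
  have key := card_sub_image_le A f m hm R1 R2 h1 h2 h3
  -- cardinality of R1
  have hR1 : R1.card ≤ 168 := by
    let Sh : Finset G := Finset.univ.filter (fun v => v ∈ S ∧ v ≠ 1)
    have hSh : Sh.card ≤ 7 := by
      have h7 := card_invol_N hF S
      rw [Nat.card_eq_fintype_card, Fintype.card_subtype] at h7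
      rw [← h7]
      apply Finset.card_le_card
      intro v hv
      have hv' := (Finset.mem_filter.1 hv).2
      exact Finset.mem_filter.2 ⟨Finset.mem_univ _, orderOf_mem hF S hv'.1 hv'.2, le_N S hv'.1⟩
    have hsub : R1 ⊆ Sh.biUnion (fun v => Finset.univ.filter
        (fun t => (orderOf t = 2 ∧ t ∉ N S) ∧ t * v = v * t)) := by
      intro t ht
      obtain ⟨h2, v, hv, hv1, hc⟩ := (Finset.mem_filter.1 ht).2
      rw [Finset.mem_biUnion]
      exact ⟨v, Finset.mem_filter.2 ⟨Finset.mem_univ _, hv, hv1⟩,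
        Finset.mem_filter.2 ⟨Finset.mem_univ _, h2, hc⟩⟩
    refine (Finset.card_le_card hsub).trans ?_
    refine (Finset.card_biUnion_le_card_mul _ _ 24 ?_).trans ?_
    · intro v hv
      have hv' := (Finset.mem_filter.1 hv).2
      have := comm_card hF S hv'.1 hv'.2
      rw [Nat.card_eq_fintype_card, Fintype.card_subtype] at this
      exact this.le
    · calc Sh.card * 24 ≤ 7 * 24 := Nat.mul_le_mul_right _ hSh
        _ = 168 := by norm_num
  have hR2 : R2.card ≤ 8 * n := by
    have hfinS : Fintype (Sylow 7 (N S)) := Fintype.ofFinite _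
    have hsub : R2 ⊆ (Finset.univ : Finset (Sylow 7 (N S))).biUnion (fun P => Finset.univ.filter
        (fun t => t ∈ Inv S (P : Subgroup (N S)))) := by
      intro t ht
      obtain ⟨h2, hno, h, hh, hh1⟩ := (Finset.mem_filter.1 ht).2
      rw [Finset.mem_biUnion]
      have ho := order_seven hF hS S h2.1 hno hh hh1
      obtain ⟨P, hP⟩ := exists_sylow_zpowers hF S ho hh.1
      refine ⟨P, Finset.mem_univ _, Finset.mem_filter.2 ⟨Finset.mem_univ _, h2.1, ?_⟩⟩
      intro p hp
      rw [hP] at hp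
      apply inv_zpowers t h hh.2
      obtain ⟨k, hk⟩ := Subgroup.mem_zpowers_iff.1 hp
      rw [Subgroup.mem_zpowers_iff]
      refine ⟨k, ?_⟩
      have := congrArg Subtype.val hk
      simpa using this
    refine (Finset.card_le_card hsub).trans ?_
    refine (Finset.card_biUnion_le_card_mul _ _ n ?_).trans ?_
    · intro P _
      have := inv_card hF S hz hzH P
      rw [← hn] at this
      rw [← this, Nat.card_eq_fintype_card, ← Set.toFinset_card]
      apply le_of_eq
      congr 1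
      ext t
      simp
    · have h8 := card_sylow_seven (card_N hF S)
      rw [Nat.card_eq_fintype_card] at h8
      rw [Finset.card_univ]
      exact Nat.mul_le_mul_right _ h8
  -- cardinality of A
  have hJ := card_invol hF
  have hidx := Subgroup.card_mul_index (N S)
  rw [card_N hF S] at hidx
  have hcardA : A.card + 7 = Nat.card {x : G // orderOf x = 2} := by
    have h7 := card_invol_N hF S
    rw [Nat.card_eq_fintype_card, Fintype.card_subtype] at h7 ⊢
    rw [← h7]
    have h := Finset.card_filter_add_card_filter_not (s := Finset.univ.filter (fun x : G => orderOf x = 2))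
      (fun x => x ∈ N S)
    rw [Finset.filter_filter, Finset.filter_filter] at h
    rw [← h, add_comm]
  have himg : (A.image f).card + 1 ≤ (N S).index := by
    have hfq : Fintype (G ⧸ N S) := Fintype.ofFinite _
    rw [Subgroup.index, Nat.card_eq_fintype_card]
    have hsub : A.image f ⊆ Finset.univ.erase (f 1) := by
      intro q hq
      obtain ⟨t, ht, rfl⟩ := Finset.mem_image.1 hq
      rw [Finset.mem_erase]
      refine ⟨?_, Finset.mem_univ _⟩
      intro h
      have h' := QuotientGroup.eq.1 h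
      apply (Finset.mem_filter.1 ht).2.2
      rw [mul_one] at h'
      have := (N S).inv_mem h'
      rwa [inv_inv] at this
    have := Finset.card_le_card hsub
    rw [Finset.card_erase_of_mem (Finset.mem_univ _), Finset.card_univ] at this
    have hpos : 0 < Fintype.card (G ⧸ N S) := Fintype.card_pos_iff.2 ⟨f 1⟩
    omega
  have hJ7 : 7 * (N S).index = 5 * Nat.card {x : G // orderOf x = 2} := by omega
  have k1 : ((A.image f).card : ℚ) + 1 ≤ (N S).index := by exact_mod_cast himg
  have k2 : (A.card : ℚ) + 7 = Nat.card {x : G // orderOf x = 2} := by exact_mod_cast hcardA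
  have k3 : (7 : ℚ) * (N S).index = 5 * Nat.card {x : G // orderOf x = 2} := by exact_mod_cast hJ7
  have k4 : (R1.card : ℚ) ≤ 168 := by exact_mod_cast hR1
  have k5 : (R2.card : ℚ) ≤ 8 * n := by exact_mod_cast hR2
  have goal : (Nat.card {x : G // orderOf x = 2} : ℚ) ≤ 511 + 24 * n := by linarith
  exact_mod_cast goal

end Cfsg.Agent.SporadicB.J1Local.CountUpper
end

-- part: SporadicB/J1Local/CountArith
section
/-!
Final arithmetic for the exclusion of the small case, and the existence of an element of order 7 in `N(S)`.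
-/

set_option autoImplicit false

namespace Cfsg.Agent.SporadicB.J1Local.CountArith

open Cfsg.Agent.SporadicB.J1Local.Defs Cfsg.Agent.SporadicB.J1Local.CountSylow

theorem arith {J n : ℕ} (h1 : 751 ≤ J) (h2 : 0 < n → 751 + 20 * (n - 1) ≤ J) (h3 : 31 * n ≤ J)
    (h4 : n = 0 ∨ (7 ∣ n ∧ n % 2 = 1 ∧ n % 3 = 1)) (h5 : J ≤ 511 + 24 * n) : False := by
  omega

theorem exists_seven {G : Type*} [Group G] [Finite G] (hF : Fus G) (S : Sylow 2 G) :
    ∃ z : G, orderOf z = 7 ∧ z ∈ Subgroup.normalizer ((S : Subgroup G) : Set G) := by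
  have hp : Fact (Nat.Prime 7) := ⟨by norm_num⟩
  have hd : 7 ∣ Nat.card (N S) := by
    rw [card_N hF S]
    norm_num
  obtain ⟨z, hz⟩ := exists_prime_orderOf_dvd_card' (G := N S) 7 hd
  refine ⟨z.1, ?_, z.2⟩
  rw [← hz]
  exact Subgroup.orderOf_coe z

end Cfsg.Agent.SporadicB.J1Local.CountArith
end

-- part: SporadicB/J1Local/CountAbsurd
section
/-!
Exclusion of the "small" case for groups of type `J1` (file of helper241).
-/

set_option autoImplicit false

namespace Cfsg.Agent.SporadicB.J1Local.CountAbsurd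

open Cfsg.Agent.SporadicB.J1Local.Defs
open Cfsg.Agent.SporadicB.J1Local.CountBase
open Cfsg.Agent.SporadicB.J1Local.CountFix
open Cfsg.Agent.SporadicB.J1Local.CountLower
open Cfsg.Agent.SporadicB.J1Local.CountMod
open Cfsg.Agent.SporadicB.J1Local.CountFortyNine

/-- The "small" case does not occur. -/
theorem small_absurd {G : Type*} [Group G] [Finite G] (hF : Fus G) (hS : Defs.Small G) : False := by
  obtain ⟨S⟩ : Nonempty (Sylow 2 G) := inferInstance
  obtain ⟨z, hz, hzH⟩ := CountArith.exists_seven hF S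
  have h1 := lower751 hF hS
  have h3 := lower31 hF hS hz
  have h5 := CountUpper.upper hF hS S z hz hzH
  have h4 := mod_facts hF hS S hz hzH
  by_cases hn : Nat.card {v : G // orderOf v = 2 ∧ v * z * v⁻¹ = z⁻¹} = 0
  · rw [hn] at h5
    omega
  obtain ⟨h7, h6⟩ := h4 hn
  by_cases h49 : Nat.card {v : G // orderOf v = 2 ∧ v * z * v⁻¹ = z⁻¹} = 49
  · have hne : Nonempty {v : G // orderOf v = 2 ∧ v * z * v⁻¹ = z⁻¹} := by
      by_contra h
      rw [not_nonempty_iff] at h
      exact hn (Nat.card_of_isEmpty)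
    obtain ⟨u, hu2, huz⟩ := hne
    have hu : I u := I_iff.mpr hu2
    have hc := card_inverting hF hS hz hu huz
    rw [h49] at hc
    have h := lower49 hF hS hz hu huz hc.symm
    rw [h49] at h5
    omega
  · omega

end Cfsg.Agent.SporadicB.J1Local.CountAbsurd
end

-- part: SporadicB/J1Local/Basic
section
/-!
Basic facts about `Z2 × A5` and about an involution `t` of a group `G` whose centraliser is `Z2 × A5`.

* `Emb t φ` : `φ : Z2 × A5 →* G` is injective, has range `C_G(t)` and sends the central involution to `t`;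
* `exists_emb` : such a `φ` exists;
* `mem_F_iff` : `F t` is the image of `A5`.
-/

set_option autoImplicit false

namespace Cfsg.Agent.SporadicB.J1Local.Basic

open Cfsg.Agent.SporRec.J1.Defs Cfsg.Agent.SporadicB.J1Local.Defs Equiv

/-- The group `Z2 × A5`. -/
abbrev ZA : Type := Multiplicative (ZMod 2) × alternatingGroup (Fin 5)

/-- `(0 1)(2 3)` -/
def a0 : alternatingGroup (Fin 5) := ⟨swap 0 1 * swap 2 3, by rw [Equiv.Perm.mem_alternatingGroup]; decide⟩
/-- `(0 2)(1 3)` -/
def b0 : alternatingGroup (Fin 5) := ⟨swap 0 2 * swap 1 3, by rw [Equiv.Perm.mem_alternatingGroup]; decide⟩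
/-- an element of order 3 which permutes `a0, b0, a0 * b0` -/
def r0 : alternatingGroup (Fin 5) := ⟨swap 0 1 * swap 0 2, by rw [Equiv.Perm.mem_alternatingGroup]; decide⟩

/-- the central involution of `ZA`. -/
def z0 : ZA := (Multiplicative.ofAdd 1, 1)

theorem z2_cases (z : Multiplicative (ZMod 2)) : z = 1 ∨ z = Multiplicative.ofAdd 1 := by
  revert z; decide

theorem a0_sq : a0 * a0 = 1 := by decide +kernel
theorem b0_sq : b0 * b0 = 1 := by decide +kernel
theorem a0_b0 : a0 * b0 = b0 * a0 := by decide +kernel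
theorem r0_a0 : r0 * a0 * r0⁻¹ = b0 := by decide +kernel
theorem r0_b0 : r0 * b0 * r0⁻¹ = a0 * b0 := by decide +kernel
theorem r0_cube : r0 * r0 * r0 = 1 := by decide +kernel
theorem a0_ne : a0 ≠ 1 := by decide +kernel
theorem b0_ne : b0 ≠ 1 := by decide +kernel
theorem a0_ne_b0 : a0 ≠ b0 := by decide +kernel

/-- The fours group `{1, a0, b0, a0 b0}` as a finset. -/
def V0 : Finset (alternatingGroup (Fin 5)) := {1, a0, b0, a0 * b0}

theorem mem_V0 (g : alternatingGroup (Fin 5)) : g ∈ V0 ↔ g = 1 ∨ g = a0 ∨ g = b0 ∨ g = a0 * b0 := by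
  simp [V0]

theorem cent_V0 : ∀ g : alternatingGroup (Fin 5), g * a0 = a0 * g → g * b0 = b0 * g → g ∈ V0 := by
  decide +kernel

theorem centre_A5 : ∀ g : alternatingGroup (Fin 5), g * a0 = a0 * g → g * b0 = b0 * g → g * r0 = r0 * g → g = 1 := by
  decide +kernel

theorem V0_mul : ∀ g ∈ V0, ∀ h ∈ V0, g * h ∈ V0 := by decide +kernel
theorem V0_inv : ∀ g ∈ V0, g⁻¹ ∈ V0 := by decide +kernel
theorem V0_sq : ∀ g ∈ V0, g * g = 1 := by decide +kernel
theorem V0_comm : ∀ g ∈ V0, ∀ h ∈ V0, g * h = h * g := by decide +kernel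
theorem V0_card : V0.card = 4 := by decide +kernel

/-- The normaliser of `V0` in `A5`. -/
def N0 : Finset (alternatingGroup (Fin 5)) :=
  Finset.univ.filter fun g => g * a0 * g⁻¹ ∈ V0 ∧ g * b0 * g⁻¹ ∈ V0

theorem N0_card : N0.card = 12 := by decide +kernel

theorem mem_N0 (g : alternatingGroup (Fin 5)) : g ∈ N0 ↔ g * a0 * g⁻¹ ∈ V0 ∧ g * b0 * g⁻¹ ∈ V0 := by
  simp [N0]

theorem N0_conj : ∀ g ∈ N0, ∀ v ∈ V0, g * v * g⁻¹ ∈ V0 := by decide +kernel
theorem N0_conj' : ∀ g ∈ N0, ∀ v ∈ V0, g⁻¹ * v * g ∈ V0 := by decide +kernel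

/-- `r0` permutes the involutions of `V0` transitively. -/
theorem r0_trans : ∀ v ∈ V0, ∀ w ∈ V0, v ≠ 1 → w ≠ 1 → ∃ g ∈ N0, g * v * g⁻¹ = w := by
  decide +kernel

/-- `Z2 × V0` as a subgroup of `ZA`. -/
def S0 : Subgroup ZA where
  carrier := {x | x.2 ∈ V0}
  mul_mem' := fun {x y} hx hy => V0_mul _ hx _ hy
  one_mem' := by
    show (1 : alternatingGroup (Fin 5)) ∈ V0
    simp [V0]
  inv_mem' := fun {x} hx => V0_inv _ hx

theorem mem_S0 (x : ZA) : x ∈ S0 ↔ x.2 ∈ V0 := Iff.rfl

theorem S0_card : Nat.card S0 = 8 := by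
  have e : S0 ≃ Multiplicative (ZMod 2) × V0 :=
    { toFun := fun x => (x.1.1, ⟨x.1.2, x.2⟩)
      invFun := fun y => ⟨(y.1, y.2.1), y.2.2⟩
      left_inv := fun x => rfl
      right_inv := fun y => rfl }
  rw [Nat.card_congr e, Nat.card_prod, Nat.card_eq_fintype_card, Nat.card_eq_fintype_card, Fintype.card_coe,
    V0_card]
  rfl

theorem card_A5 : Nat.card (alternatingGroup (Fin 5)) = 60 := by
  rw [Nat.card_eq_fintype_card]
  decide +kernel

theorem card_ZA : Nat.card ZA = 120 := by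
  rw [Nat.card_prod, card_A5, Nat.card_eq_fintype_card]
  rfl

theorem commutator_A5 : (⁅(⊤ : Subgroup (alternatingGroup (Fin 5))), (⊤ : Subgroup (alternatingGroup (Fin 5)))⁆ :
    Subgroup (alternatingGroup (Fin 5))) = ⊤ := by
  have : IsSimpleGroup (alternatingGroup (Fin 5)) := alternatingGroup.isSimpleGroup (by simp)
  have hn : (⁅(⊤ : Subgroup (alternatingGroup (Fin 5))), (⊤ : Subgroup (alternatingGroup (Fin 5)))⁆ :
    Subgroup (alternatingGroup (Fin 5))).Normal := inferInstance
  rcases hn.eq_bot_or_eq_top with h | h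
  · exfalso
    rw [Subgroup.commutator_eq_bot_iff_le_centralizer] at h
    have h1 : a0 ∈ (⊤ : Subgroup (alternatingGroup (Fin 5))) := Subgroup.mem_top _
    have h2 := Subgroup.mem_centralizer_iff.1 (h h1) r0 (Set.mem_univ _)
    revert h2
    decide +kernel
  · exact h

/-- the elements of `ZA` commuting with everything. -/
theorem centre_ZA (x : ZA) (h : ∀ y : ZA, x * y = y * x) : x.2 = 1 := by
  apply centre_A5
  · exact congrArg Prod.snd (h (1, a0))
  · exact congrArg Prod.snd (h (1, b0))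
  · exact congrArg Prod.snd (h (1, r0))

section Emb

variable {G : Type*} [Group G]

/-- `φ` embeds `Z2 × A5` into `G` with image the centraliser of `t`, the central involution going to `t`. -/
structure Emb (t : G) (φ : ZA →* G) : Prop where
  inj : Function.Injective φ
  range : φ.range = Subgroup.centralizer ({t} : Set G)
  map_z : φ z0 = t

theorem z0_sq : z0 * z0 = 1 := by
  ext1
  · show Multiplicative.ofAdd (1 : ZMod 2) * Multiplicative.ofAdd (1 : ZMod 2) = 1
    decide
  · show (1 : alternatingGroup (Fin 5)) * 1 = 1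
    simp

theorem z0_ne : z0 ≠ 1 := by
  intro h
  have : Multiplicative.ofAdd (1 : ZMod 2) = 1 := congrArg Prod.fst h
  revert this
  decide

theorem z0_comm (x : ZA) : z0 * x = x * z0 := by
  ext1
  · exact mul_comm _ _
  · show (1 : alternatingGroup (Fin 5)) * x.2 = x.2 * 1
    simp

theorem exists_emb (t : G) (ht : orderOf t = 2)
    (e : Nonempty (Subgroup.centralizer ({t} : Set G) ≃* Multiplicative (ZMod 2) × alternatingGroup (Fin 5))) :
    ∃ φ : ZA →* G, Emb t φ := by
  obtain ⟨e⟩ := e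
  refine ⟨(Subgroup.subtype _).comp e.symm.toMonoidHom, ?_, ?_, ?_⟩
  · exact (Subgroup.subtype_injective _).comp e.symm.injective
  · ext g
    constructor
    · rintro ⟨x, rfl⟩
      exact (e.symm x).2
    · intro hg
      exact ⟨e ⟨g, hg⟩, by simp⟩
  · have htt : t ∈ Subgroup.centralizer ({t} : Set G) := by
      rw [Subgroup.mem_centralizer_singleton_iff]
    have h1 : ∀ y : ZA, e ⟨t, htt⟩ * y = y * e ⟨t, htt⟩ := by
      intro y
      obtain ⟨c, rfl⟩ := e.surjective y
      rw [← map_mul, ← map_mul]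
      congr 1
      apply Subtype.ext
      exact (Subgroup.mem_centralizer_singleton_iff.1 c.2).symm
    have h2 := centre_ZA _ h1
    have h3 : e ⟨t, htt⟩ ≠ 1 := by
      intro h
      have h4 : (⟨t, htt⟩ : Subgroup.centralizer ({t} : Set G)) = 1 := by
        apply e.injective
        rw [h, map_one]
      have h5 : t = 1 := congrArg Subtype.val h4
      rw [h5, orderOf_one] at ht
      omega
    have h4 : e ⟨t, htt⟩ = z0 := by
      rcases z2_cases (e ⟨t, htt⟩).1 with h | h
      · exact absurd (Prod.ext h h2) h3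
      · exact Prod.ext h h2
    show ((e.symm z0 : Subgroup.centralizer ({t} : Set G)) : G) = t
    rw [← h4, e.symm_apply_apply]

variable {t : G} {φ : ZA →* G}

theorem Emb.mem_centralizer (h : Emb t φ) (x : ZA) : φ x ∈ Subgroup.centralizer ({t} : Set G) := by
  rw [← h.range]
  exact ⟨x, rfl⟩

theorem Emb.comm (h : Emb t φ) (x : ZA) : φ x * t = t * φ x :=
  Subgroup.mem_centralizer_singleton_iff.1 (h.mem_centralizer x)

theorem Emb.exists_of_comm (h : Emb t φ) {g : G} (hg : g * t = t * g) : ∃ x : ZA, φ x = g := by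
  have : g ∈ φ.range := by
    rw [h.range, Subgroup.mem_centralizer_singleton_iff]
    exact hg
  exact this

/-- `F t` is the image of `1 × A5`. -/
theorem Emb.F_eq (h : Emb t φ) :
    F t = (Subgroup.prod (⊥ : Subgroup (Multiplicative (ZMod 2)))
      (⊤ : Subgroup (alternatingGroup (Fin 5)))).map φ := by
  have h1 : ⁅(⊤ : Subgroup ZA), (⊤ : Subgroup ZA)⁆ =
      Subgroup.prod (⊥ : Subgroup (Multiplicative (ZMod 2))) (⊤ : Subgroup (alternatingGroup (Fin 5))) := by
    rw [← Subgroup.top_prod_top, Subgroup.commutator_prod_prod, commutator_A5]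
    congr 1
    rw [Subgroup.commutator_eq_bot_iff_le_centralizer]
    intro x _
    rw [Subgroup.mem_centralizer_iff]
    intro y _
    exact mul_comm _ _
  rw [← h1, Subgroup.map_commutator]
  unfold F
  rw [← MonoidHom.range_eq_map, h.range]

theorem Emb.mem_F_iff (h : Emb t φ) (x : ZA) : φ x ∈ F t ↔ x.1 = 1 := by
  rw [h.F_eq]
  constructor
  · rintro ⟨y, hy, hxy⟩
    have := h.inj hxy
    subst this
    exact (Subgroup.mem_prod.1 hy).1
  · intro hx
    exact ⟨x, Subgroup.mem_prod.2 ⟨hx, Subgroup.mem_top _⟩, rfl⟩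

/-- The order of the centraliser of `t`. -/
theorem Emb.card_centralizer (h : Emb t φ) : Nat.card (Subgroup.centralizer ({t} : Set G)) = 120 := by
  rw [← h.range, ← card_ZA]
  exact Nat.card_congr (MonoidHom.ofInjective h.inj).toEquiv.symm

theorem Emb.t_sq (h : Emb t φ) : t * t = 1 := by
  rw [← h.map_z, ← map_mul, z0_sq, map_one]

theorem Emb.t_ne (h : Emb t φ) : t ≠ 1 := by
  rw [← h.map_z]
  intro hh
  exact z0_ne (h.inj (hh.trans (map_one φ).symm))

/-- transport of `Emb` by conjugation -/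
theorem Emb.conj (h : Emb t φ) (c : G) : Emb (c * t * c⁻¹) ((MulAut.conj c).toMonoidHom.comp φ) := by
  refine ⟨?_, ?_, ?_⟩
  · exact (MulAut.conj c).injective.comp h.inj
  · ext g
    rw [Subgroup.mem_centralizer_singleton_iff]
    constructor
    · rintro ⟨x, rfl⟩
      have h1 := h.comm x
      show c * φ x * c⁻¹ * (c * t * c⁻¹) = c * t * c⁻¹ * (c * φ x * c⁻¹)
      have h2 : c * φ x * c⁻¹ * (c * t * c⁻¹) = c * (φ x * t) * c⁻¹ := by group
      have h3 : c * t * c⁻¹ * (c * φ x * c⁻¹) = c * (t * φ x) * c⁻¹ := by group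
      rw [h2, h3, h1]
    · intro hg
      have h1 : (c⁻¹ * g * c) * t = t * (c⁻¹ * g * c) := by
        have h2 : (c⁻¹ * g * c) * t = c⁻¹ * (g * (c * t * c⁻¹)) * c := by group
        have h3 : t * (c⁻¹ * g * c) = c⁻¹ * ((c * t * c⁻¹) * g) * c := by group
        rw [h2, h3, hg]
      obtain ⟨x, hx⟩ := h.exists_of_comm h1
      refine ⟨x, ?_⟩
      show c * φ x * c⁻¹ = g
      rw [hx]
      group
  · show c * φ z0 * c⁻¹ = c * t * c⁻¹
    rw [h.map_z]

/-- an embedding gives back the isomorphism of the centraliser with `Z2 × A5`. -/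
theorem Emb.nonempty_mulEquiv (h : Emb t φ) :
    Nonempty (Subgroup.centralizer ({t} : Set G) ≃* Multiplicative (ZMod 2) × alternatingGroup (Fin 5)) := by
  rw [← h.range]
  exact ⟨(MonoidHom.ofInjective h.inj).symm⟩

theorem Emb.orderOf_t (h : Emb t φ) : orderOf t = 2 :=
  orderOf_eq_prime (by rw [pow_two]; exact h.t_sq) h.t_ne

/-- `F` is equivariant. -/
theorem mem_F_conj (c x y : G) : c * y * c⁻¹ ∈ F (c * x * c⁻¹) ↔ y ∈ F x := by
  have h1 : Subgroup.centralizer ({c * x * c⁻¹} : Set G) =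
      (Subgroup.centralizer ({x} : Set G)).map (MulAut.conj c).toMonoidHom := by
    ext g
    rw [Subgroup.mem_centralizer_singleton_iff]
    constructor
    · intro hg
      refine ⟨c⁻¹ * g * c, ?_, ?_⟩
      · rw [SetLike.mem_coe, Subgroup.mem_centralizer_singleton_iff]
        have h2 : (c⁻¹ * g * c) * x = c⁻¹ * (g * (c * x * c⁻¹)) * c := by group
        have h3 : x * (c⁻¹ * g * c) = c⁻¹ * ((c * x * c⁻¹) * g) * c := by group
        rw [h2, h3, hg]
      · show c * (c⁻¹ * g * c) * c⁻¹ = g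
        group
    · rintro ⟨k, hk, rfl⟩
      rw [SetLike.mem_coe, Subgroup.mem_centralizer_singleton_iff] at hk
      show c * k * c⁻¹ * (c * x * c⁻¹) = c * x * c⁻¹ * (c * k * c⁻¹)
      have h2 : c * k * c⁻¹ * (c * x * c⁻¹) = c * (k * x) * c⁻¹ := by group
      have h3 : c * x * c⁻¹ * (c * k * c⁻¹) = c * (x * k) * c⁻¹ := by group
      rw [h2, h3, hk]
  unfold F
  rw [h1, ← Subgroup.map_commutator]
  constructor
  · rintro ⟨k, hk, hkk⟩
    have : k = y := (MulAut.conj c).injective hkk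
    exact this ▸ hk
  · intro hy
    exact ⟨y, hy, rfl⟩

end Emb

end Cfsg.Agent.SporadicB.J1Local.Basic
end

-- part: SporadicB/J1Local/Fusion
section
/-!
Fusion of involutions in a finite simple group with a 2-central involution `t` with `C_G(t) ≅ Z2 × A5`.
-/

set_option autoImplicit false

namespace Cfsg.Agent.SporadicB.J1Local.Fusion

open Cfsg.Agent.SporRec.J1.Defs Cfsg.Agent.SporadicB.J1Local.Defs Cfsg.Agent.SporadicB.J1Local.Basic

variable {G : Type*} [Group G] {t : G} {φ : ZA →* G}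

theorem card_S (h : Emb t φ) : Nat.card (S0.map φ) = 8 := by
  rw [← S0_card]
  exact (Nat.card_congr (S0.equivMapOfInjective φ h.inj).toEquiv).symm

theorem exists_sylow [Finite G] (ht : Cfsg.IsTwoCentralInvolution t) (h : Emb t φ) :
    ∃ P : Sylow 2 G, (P : Subgroup G) = S0.map φ := by
  obtain ⟨_, Q, htQ, hc⟩ := ht
  have hQle : (Q : Subgroup G) ≤ Subgroup.centralizer ({t} : Set G) := fun x hx =>
    Subgroup.mem_centralizer_singleton_iff.2 (hc x hx)
  have h1 : Nat.card Q ∣ 120 := by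
    rw [← h.card_centralizer]
    exact Subgroup.card_dvd_of_le hQle
  obtain ⟨k, hk⟩ := IsPGroup.iff_card.1 Q.isPGroup'
  have h3 : k ≤ 3 := by
    by_contra hcon
    have h4 : 2 ^ 4 ∣ 2 ^ k := pow_dvd_pow 2 (by omega)
    have h5 : 2 ^ 4 ∣ 120 := h4.trans (hk ▸ h1)
    omega
  have hp : IsPGroup 2 (S0.map φ) := IsPGroup.of_card (n := 3) (card_S h)
  obtain ⟨P, hP⟩ := hp.exists_le_sylow
  refine ⟨P, ?_⟩
  have h6 : Nat.card P = Nat.card Q := by rw [P.card_eq_multiplicity, Q.card_eq_multiplicity]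
  have h7 : Nat.card P ≤ 8 := by
    rw [h6, hk]
    calc 2 ^ k ≤ 2 ^ 3 := Nat.pow_le_pow_right (by norm_num) h3
      _ = 8 := by norm_num
  exact (Subgroup.eq_of_le_of_card_ge hP (h7.trans (card_S h).ge)).symm

theorem mem_S_iff (φ : ZA →* G) (g : G) : g ∈ S0.map φ ↔ ∃ x : ZA, x.2 ∈ V0 ∧ φ x = g := Iff.rfl

theorem S_comm (φ : ZA →* G) : ∀ x ∈ S0.map φ, ∀ y ∈ S0.map φ, x * y = y * x := by
  rintro _ ⟨x, hx, rfl⟩ _ ⟨y, hy, rfl⟩
  rw [← map_mul, ← map_mul]
  congr 1
  ext1
  · exact mul_comm _ _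
  · exact V0_comm _ hx _ hy

theorem S_sq (φ : ZA →* G) : ∀ x ∈ S0.map φ, x * x = 1 := by
  rintro _ ⟨x, hx, rfl⟩
  rw [← map_mul, ← map_one φ]
  congr 1
  ext1
  · show x.1 * x.1 = 1
    rcases z2_cases x.1 with h | h <;> rw [h]
    · simp
    · decide
  · exact V0_sq _ hx

theorem t_mem_S (h : Emb t φ) : t ∈ S0.map φ := by
  refine ⟨z0, ?_, h.map_z⟩
  show (1 : alternatingGroup (Fin 5)) ∈ V0
  simp [V0]

open scoped IsMulCommutative in
/-- In a finite simple group the normaliser of the Sylow subgroup moves `t`. -/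
theorem exists_moves [Finite G] [IsSimpleGroup G] (h : Emb t φ) (P : Sylow 2 G)
    (hP : (P : Subgroup G) = S0.map φ) :
    ∃ n ∈ Subgroup.normalizer ((P : Subgroup G) : Set G), n * t ≠ t * n := by
  classical
  by_contra hcon
  push Not at hcon
  have hcomm : IsMulCommutative (P : Subgroup G) := by
    refine ⟨⟨fun a b => Subtype.ext ?_⟩⟩
    have ha : (a : G) ∈ S0.map φ := hP ▸ a.2
    have hb : (b : G) ∈ S0.map φ := hP ▸ b.2
    exact S_comm φ _ ha _ hb
  have htP : t ∈ (P : Subgroup G) := hP ▸ t_mem_S h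
  have key : ∀ (k : ℕ) (g₀ : G), g₀⁻¹ * t ^ k * g₀ ∈ (P : Subgroup G) → g₀⁻¹ * t ^ k * g₀ = t ^ k := by
    intro k g₀ hk
    obtain ⟨n, hn, hh⟩ := P.conj_eq_normalizer_conj_of_mem (t ^ k) g₀ (pow_mem htP k) hk
    rw [hh]
    have h1 : n * t ^ k = t ^ k * n := (Commute.pow_right (show Commute n t from hcon n hn) k)
    rw [mul_assoc, ← h1, inv_mul_cancel_left]
  let f : G →* (P : Subgroup G) := MonoidHom.transfer (MonoidHom.id (P : Subgroup G))
  have hf : f t = ⟨t ^ (P : Subgroup G).index, MonoidHom.transfer_eq_pow_aux t key⟩ :=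
    MonoidHom.transfer_eq_pow (MonoidHom.id (P : Subgroup G)) t key
  have hidx : ¬ 2 ∣ (P : Subgroup G).index := P.not_dvd_index
  have htsq := h.t_sq
  have htne := h.t_ne
  have hker : f.ker.Normal := inferInstance
  rcases hker.eq_bot_or_eq_top with hk | hk
  · -- `G` would be abelian
    have hinj : Function.Injective f := (MonoidHom.ker_eq_bot_iff f).1 hk
    have h2 : φ (1, a0) * φ (1, r0) = φ (1, r0) * φ (1, a0) := by
      apply hinj
      rw [map_mul, map_mul, mul_comm]
    rw [← map_mul, ← map_mul] at h2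
    have h3 := congrArg Prod.snd (h.inj h2)
    revert h3
    show ¬ (a0 * r0 = r0 * a0)
    decide +kernel
  · have h2 : f t = 1 := by
      have : t ∈ f.ker := by rw [hk]; exact Subgroup.mem_top _
      exact this
    rw [hf] at h2
    have h3 : t ^ (P : Subgroup G).index = 1 := congrArg Subtype.val h2
    have h4 : orderOf t ∣ (P : Subgroup G).index := orderOf_dvd_of_pow_eq_one h3
    have h5 : orderOf t = 2 := orderOf_eq_prime (by rw [pow_two]; exact htsq) htne
    rw [h5] at h4
    exact hidx h4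

theorem mem_N_comm_iff (h : Emb t φ) (n : G) :
    (n ∈ Subgroup.normalizer ((S0.map φ : Subgroup G) : Set G) ∧ n * t = t * n) ↔
      ∃ x : ZA, x.2 ∈ N0 ∧ φ x = n := by
  constructor
  · rintro ⟨hn, hnt⟩
    obtain ⟨x, rfl⟩ := h.exists_of_comm hnt
    refine ⟨x, ?_, rfl⟩
    rw [Subgroup.mem_normalizer_iff] at hn
    have key : ∀ v ∈ V0, x.2 * v * x.2⁻¹ ∈ V0 := by
      intro v hv
      have h1 : φ (1, v) ∈ ((S0.map φ : Subgroup G) : Set G) := ⟨(1, v), hv, rfl⟩
      have h2 := (hn (φ (1, v))).1 h1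
      rw [← map_inv, ← map_mul, ← map_mul] at h2
      obtain ⟨y, hy, hyx⟩ := h2
      have h3 := h.inj hyx
      have h4 : y.2 = x.2 * v * x.2⁻¹ := congrArg Prod.snd h3
      rw [← h4]
      exact hy
    rw [mem_N0]
    exact ⟨key _ (by simp [V0]), key _ (by simp [V0])⟩
  · rintro ⟨x, hx, rfl⟩
    refine ⟨?_, h.comm x⟩
    rw [Subgroup.mem_normalizer_iff]
    intro g
    constructor
    · rintro ⟨y, hy, rfl⟩
      refine ⟨x * y * x⁻¹, N0_conj _ hx _ hy, ?_⟩
      rw [map_mul, map_mul, map_inv]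
    · rintro ⟨y, hy, hyg⟩
      refine ⟨x⁻¹ * y * x, ?_, ?_⟩
      · exact N0_conj' _ hx _ hy
      · rw [map_mul, map_mul, map_inv, hyg]
        group

theorem card_N0 : Nat.card {x : ZA // x.2 ∈ N0} = 24 := by
  have e : {x : ZA // x.2 ∈ N0} ≃ Multiplicative (ZMod 2) × N0 :=
    { toFun := fun x => (x.1.1, ⟨x.1.2, x.2⟩)
      invFun := fun y => ⟨(y.1, y.2.1), y.2.2⟩
      left_inv := fun x => rfl
      right_inv := fun y => rfl }
  rw [Nat.card_congr e, Nat.card_prod, Nat.card_eq_fintype_card, Nat.card_eq_fintype_card, Fintype.card_coe,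
    N0_card]
  rfl

/-- The `N(S)`-orbit of `t`. -/
def orb (t : G) (N : Subgroup G) : Set G := {y | ∃ n ∈ N, n * t * n⁻¹ = y}

theorem card_N [Finite G] (h : Emb t φ) :
    Nat.card (Subgroup.normalizer ((S0.map φ : Subgroup G) : Set G)) =
      (orb t (Subgroup.normalizer ((S0.map φ : Subgroup G) : Set G))).ncard * 24 := by
  set N := Subgroup.normalizer ((S0.map φ : Subgroup G) : Set G) with hN
  let act : MulAction N G := MulAction.compHom G ((MulAut.conj : G →* MulAut G).comp N.subtype)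
  have hact : ∀ (n : N) (x : G), n • x = (n : G) * x * (n : G)⁻¹ := fun n x => rfl
  have h1 : Nat.card N = Nat.card (MulAction.orbit N t) * Nat.card (MulAction.stabilizer N t) := by
    rw [Nat.card_congr (MulAction.orbitEquivQuotientStabilizer N t), ← Subgroup.card_eq_card_quotient_mul_card_subgroup]
  have h2 : Nat.card (MulAction.stabilizer N t) = 24 := by
    rw [← card_N0]
    symm
    refine Nat.card_eq_of_bijective
      (fun x : {x : ZA // x.2 ∈ N0} =>
        (⟨⟨φ x.1, ((mem_N_comm_iff h (φ x.1)).2 ⟨x.1, x.2, rfl⟩).1⟩, ?_⟩ : MulAction.stabilizer N t)) ⟨?_, ?_⟩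
    · rw [MulAction.mem_stabilizer_iff, hact]
      show φ x.1 * t * (φ x.1)⁻¹ = t
      rw [h.comm, mul_inv_cancel_right]
    · intro x y hxy
      have h3 : φ x.1 = φ y.1 := congrArg (fun z : MulAction.stabilizer N t => ((z : N) : G)) hxy
      exact Subtype.ext (h.inj h3)
    · rintro ⟨⟨n, hn⟩, hst⟩
      rw [MulAction.mem_stabilizer_iff, hact] at hst
      have h3 : n * t = t * n := by
        have h4 : n * t * n⁻¹ = t := hst
        calc n * t = n * t * n⁻¹ * n := by group
          _ = t * n := by rw [h4]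
      obtain ⟨x, hx, hxn⟩ := (mem_N_comm_iff h n).1 ⟨hn, h3⟩
      exact ⟨⟨x, hx⟩, Subtype.ext (Subtype.ext hxn)⟩
  rw [h1, h2]
  congr 1
  rw [← Nat.card_coe_set_eq]
  apply congrArg (fun s : Set G => Nat.card s)
  ext y
  constructor
  · rintro ⟨n, hn⟩
    exact ⟨n, n.2, hn⟩
  · rintro ⟨n, hn, hny⟩
    exact ⟨⟨n, hn⟩, hny⟩

theorem orb_conj {N : Subgroup G} {n y : G} (hn : n ∈ N) (hy : y ∈ orb t N) : n * y * n⁻¹ ∈ orb t N := by
  obtain ⟨m, hm, rfl⟩ := hy
  exact ⟨n * m, mul_mem hn hm, by group⟩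

theorem self_mem_orb (N : Subgroup G) : t ∈ orb t N := ⟨1, one_mem _, by group⟩

theorem orb_sub (h : Emb t φ) {y : G} (hy : y ∈ orb t (Subgroup.normalizer ((S0.map φ : Subgroup G) : Set G))) :
    ∃ x : ZA, x.2 ∈ V0 ∧ x ≠ 1 ∧ φ x = y := by
  obtain ⟨n, hn, rfl⟩ := hy
  rw [Subgroup.mem_normalizer_iff] at hn
  obtain ⟨x, hx, hxy⟩ := (hn t).1 (t_mem_S h)
  refine ⟨x, hx, ?_, hxy⟩
  rintro rfl
  rw [map_one] at hxy
  apply h.t_ne
  calc t = n⁻¹ * (n * t * n⁻¹) * n := by group
    _ = 1 := by rw [← hxy]; group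

/-- an element of `S` different from `1` and `t` and its `N_C(t)(S)`-conjugates. -/
theorem conj_in_C (h : Emb t φ) {x y : ZA} (hx : x.2 ∈ V0) (hy : y.2 ∈ V0) (hx1 : x.2 ≠ 1) (hy1 : y.2 ≠ 1)
    (hxy : x.1 = y.1) : ∃ c ∈ Subgroup.normalizer ((S0.map φ : Subgroup G) : Set G),
      c * t = t * c ∧ c * φ x * c⁻¹ = φ y := by
  obtain ⟨g, hg, hgx⟩ := r0_trans _ hx _ hy hx1 hy1
  have h1 := (mem_N_comm_iff h (φ (1, g))).2 ⟨(1, g), hg, rfl⟩
  refine ⟨φ (1, g), h1.1, h1.2, ?_⟩
  rw [← map_inv, ← map_mul, ← map_mul]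
  congr 1
  ext1
  · show 1 * x.1 * 1⁻¹ = y.1
    rw [hxy]; simp
  · exact hgx

theorem orb_eq [Finite G] [IsSimpleGroup G] (h : Emb t φ) (P : Sylow 2 G)
    (hP : (P : Subgroup G) = S0.map φ) :
    (orb t (Subgroup.normalizer ((S0.map φ : Subgroup G) : Set G))).ncard = 7 ∧
      ∀ x : ZA, x.2 ∈ V0 → x ≠ 1 → φ x ∈ orb t (Subgroup.normalizer ((S0.map φ : Subgroup G) : Set G)) := by
  classical
  set N := Subgroup.normalizer ((S0.map φ : Subgroup G) : Set G) with hN
  have hcard := card_N h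
  rw [← hN] at hcard
  have h16 : ¬ 16 ∣ Nat.card N := by
    intro hd
    have h1 : 16 ∣ Nat.card G := hd.trans (Subgroup.card_subgroup_dvd_card N)
    have h2 : Nat.card (P : Subgroup G) * (P : Subgroup G).index = Nat.card G := Subgroup.card_mul_index _
    have h3 : Nat.card (P : Subgroup G) = 8 := by rw [hP]; exact card_S h
    have h4 := P.not_dvd_index
    rw [h3] at h2
    rw [← h2] at h1
    omega
  -- the two `r`-orbits
  have hA : (∃ x : ZA, x.2 ∈ V0 ∧ x.2 ≠ 1 ∧ x.1 = 1 ∧ φ x ∈ orb t N) →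
      ∀ x : ZA, x.2 ∈ V0 → x.2 ≠ 1 → x.1 = 1 → φ x ∈ orb t N := by
    rintro ⟨x, hx, hx1, hx2, hxo⟩ y hy hy1 hy2
    obtain ⟨c, hc, -, hcx⟩ := conj_in_C h hx hy hx1 hy1 (by rw [hx2, hy2])
    rw [← hcx]
    exact orb_conj hc hxo
  have hB : (∃ x : ZA, x.2 ∈ V0 ∧ x.2 ≠ 1 ∧ x.1 = Multiplicative.ofAdd 1 ∧ φ x ∈ orb t N) →
      ∀ x : ZA, x.2 ∈ V0 → x.2 ≠ 1 → x.1 = Multiplicative.ofAdd 1 → φ x ∈ orb t N := by
    rintro ⟨x, hx, hx1, hx2, hxo⟩ y hy hy1 hy2
    obtain ⟨c, hc, -, hcx⟩ := conj_in_C h hx hy hx1 hy1 (by rw [hx2, hy2])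
    rw [← hcx]
    exact orb_conj hc hxo
  let VN : Finset (alternatingGroup (Fin 5)) := V0.erase 1
  have hVN : VN.card = 3 := by
    show (V0.erase 1).card = 3
    decide +kernel
  -- the orbit as an image of a finset
  have hz : φ z0 ∈ orb t N := by rw [h.map_z]; exact self_mem_orb N
  let TA : Finset ZA := VN.image (fun v => ((1 : Multiplicative (ZMod 2)), v))
  let TB : Finset ZA := VN.image (fun v => ((Multiplicative.ofAdd 1 : Multiplicative (ZMod 2)), v))
  have hcases : ∀ x : ZA, x.2 ∈ V0 → x ≠ 1 → x = z0 ∨ x ∈ TA ∨ x ∈ TB := by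
    rintro ⟨z, v⟩ hv hne
    rcases z2_cases z with rfl | rfl
    · right; left
      refine Finset.mem_image.2 ⟨v, Finset.mem_erase.2 ⟨?_, hv⟩, rfl⟩
      rintro rfl
      exact hne rfl
    · by_cases h1 : v = 1
      · left; subst h1; rfl
      · right; right
        exact Finset.mem_image.2 ⟨v, Finset.mem_erase.2 ⟨h1, hv⟩, rfl⟩
  have hTA : ∀ x ∈ TA, x.2 ∈ V0 ∧ x.2 ≠ 1 ∧ x.1 = 1 := by
    intro x hx
    obtain ⟨v, hv, rfl⟩ := Finset.mem_image.1 hx
    exact ⟨(Finset.mem_erase.1 hv).2, (Finset.mem_erase.1 hv).1, rfl⟩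
  have hTB : ∀ x ∈ TB, x.2 ∈ V0 ∧ x.2 ≠ 1 ∧ x.1 = Multiplicative.ofAdd 1 := by
    intro x hx
    obtain ⟨v, hv, rfl⟩ := Finset.mem_image.1 hx
    exact ⟨(Finset.mem_erase.1 hv).2, (Finset.mem_erase.1 hv).1, rfl⟩
  have hTAc : TA.card = 3 := by
    rw [Finset.card_image_of_injective _ (fun a b hab => congrArg Prod.snd hab), hVN]
  have hTBc : TB.card = 3 := by
    rw [Finset.card_image_of_injective _ (fun a b hab => congrArg Prod.snd hab), hVN]
  have hz12 : (1 : Multiplicative (ZMod 2)) ≠ Multiplicative.ofAdd 1 := by decide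
  have hzA : z0 ∉ TA := by
    intro hh
    exact (hTA _ hh).2.1 rfl
  have hzB : z0 ∉ TB := by
    intro hh
    exact (hTB _ hh).2.1 rfl
  have hAB : Disjoint TA TB := by
    rw [Finset.disjoint_left]
    intro x hx hx'
    exact hz12 ((hTA _ hx).2.2.symm.trans (hTB _ hx').2.2)
  have himg : ∀ T : Finset ZA, (∀ x : ZA, x.2 ∈ V0 → x ≠ 1 → (φ x ∈ orb t N ↔ x ∈ T)) →
      (∀ x ∈ T, x.2 ∈ V0 ∧ x ≠ 1) → (orb t N).ncard = T.card := by
    intro T hT hT2
    have : orb t N = φ '' (T : Set ZA) := by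
      ext y
      constructor
      · intro hy
        obtain ⟨x, hx, hx1, rfl⟩ := orb_sub h hy
        exact ⟨x, Finset.mem_coe.2 ((hT x hx hx1).1 hy), rfl⟩
      · rintro ⟨x, hx, rfl⟩
        have hx' := Finset.mem_coe.1 hx
        exact (hT x (hT2 x hx').1 (hT2 x hx').2).2 hx'
    rw [this, Set.ncard_image_of_injective _ h.inj, Set.ncard_coe_finset]
  have hne1 : ∀ x : ZA, x.2 ≠ 1 → x ≠ 1 := by
    rintro x hx rfl
    exact hx rfl
  by_cases hAo : ∃ x : ZA, x.2 ∈ V0 ∧ x.2 ≠ 1 ∧ x.1 = 1 ∧ φ x ∈ orb t N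
  · by_cases hBo : ∃ x : ZA, x.2 ∈ V0 ∧ x.2 ≠ 1 ∧ x.1 = Multiplicative.ofAdd 1 ∧ φ x ∈ orb t N
    · have hall : ∀ x : ZA, x.2 ∈ V0 → x ≠ 1 → φ x ∈ orb t N := by
        intro x hx hx1
        rcases hcases x hx hx1 with rfl | hh | hh
        · exact hz
        · exact hA hAo x hx (hTA _ hh).2.1 (hTA _ hh).2.2
        · exact hB hBo x hx (hTB _ hh).2.1 (hTB _ hh).2.2
      refine ⟨?_, hall⟩
      rw [himg (insert z0 (TA ∪ TB))]
      · rw [Finset.card_insert_of_notMem (by simp [hzA, hzB]), Finset.card_union_of_disjoint hAB, hTAc, hTBc]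
      · intro x hx hx1
        refine ⟨fun _ => ?_, fun _ => hall x hx hx1⟩
        rcases hcases x hx hx1 with rfl | hh | hh
        · exact Finset.mem_insert_self _ _
        · exact Finset.mem_insert_of_mem (Finset.mem_union_left _ hh)
        · exact Finset.mem_insert_of_mem (Finset.mem_union_right _ hh)
      · intro x hx
        rcases Finset.mem_insert.1 hx with rfl | hx
        · exact ⟨by show (1 : alternatingGroup (Fin 5)) ∈ V0; simp [V0], z0_ne⟩
        · rcases Finset.mem_union.1 hx with hx | hx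
          · exact ⟨(hTA _ hx).1, hne1 _ (hTA _ hx).2.1⟩
          · exact ⟨(hTB _ hx).1, hne1 _ (hTB _ hx).2.1⟩
    · exfalso
      apply h16
      rw [hcard, himg (insert z0 TA)]
      · rw [Finset.card_insert_of_notMem hzA, hTAc]
        norm_num
      · intro x hx hx1
        rcases hcases x hx hx1 with rfl | hh | hh
        · exact ⟨fun _ => Finset.mem_insert_self _ _, fun _ => hz⟩
        · exact ⟨fun _ => Finset.mem_insert_of_mem hh,
            fun _ => hA hAo x hx (hTA _ hh).2.1 (hTA _ hh).2.2⟩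
        · constructor
          · intro ho
            exact absurd ⟨x, hx, (hTB _ hh).2.1, (hTB _ hh).2.2, ho⟩ hBo
          · intro hi
            rcases Finset.mem_insert.1 hi with rfl | hi
            · exact absurd hh hzB
            · exact absurd hh (Finset.disjoint_left.1 hAB hi)
      · intro x hx
        rcases Finset.mem_insert.1 hx with rfl | hx
        · exact ⟨by show (1 : alternatingGroup (Fin 5)) ∈ V0; simp [V0], z0_ne⟩
        · exact ⟨(hTA _ hx).1, hne1 _ (hTA _ hx).2.1⟩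
  · by_cases hBo : ∃ x : ZA, x.2 ∈ V0 ∧ x.2 ≠ 1 ∧ x.1 = Multiplicative.ofAdd 1 ∧ φ x ∈ orb t N
    · exfalso
      apply h16
      rw [hcard, himg (insert z0 TB)]
      · rw [Finset.card_insert_of_notMem hzB, hTBc]
        norm_num
      · intro x hx hx1
        rcases hcases x hx hx1 with rfl | hh | hh
        · exact ⟨fun _ => Finset.mem_insert_self _ _, fun _ => hz⟩
        · constructor
          · intro ho
            exact absurd ⟨x, hx, (hTA _ hh).2.1, (hTA _ hh).2.2, ho⟩ hAo
          · intro hi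
            rcases Finset.mem_insert.1 hi with rfl | hi
            · exact absurd hh hzA
            · exact absurd hi (Finset.disjoint_left.1 hAB hh)
        · exact ⟨fun _ => Finset.mem_insert_of_mem hh,
            fun _ => hB hBo x hx (hTB _ hh).2.1 (hTB _ hh).2.2⟩
      · intro x hx
        rcases Finset.mem_insert.1 hx with rfl | hx
        · exact ⟨by show (1 : alternatingGroup (Fin 5)) ∈ V0; simp [V0], z0_ne⟩
        · exact ⟨(hTB _ hx).1, hne1 _ (hTB _ hx).2.1⟩
    · exfalso
      obtain ⟨n, hn, hnt⟩ := exists_moves h P hP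
      rw [hP] at hn
      have h1 : n * t * n⁻¹ ∈ orb t N := ⟨n, hn, rfl⟩
      obtain ⟨x, hx, hx1, hxn⟩ := orb_sub h h1
      rcases hcases x hx hx1 with rfl | hh | hh
      · apply hnt
        rw [h.map_z] at hxn
        calc n * t = n * t * n⁻¹ * n := by group
          _ = t * n := by rw [← hxn]
      · exact hAo ⟨x, hx, (hTA _ hh).2.1, (hTA _ hh).2.2, hxn ▸ h1⟩
      · exact hBo ⟨x, hx, (hTB _ hh).2.1, (hTB _ hh).2.2, hxn ▸ h1⟩

theorem no_swap [Finite G] [IsSimpleGroup G] (h : Emb t φ) (P : Sylow 2 G)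
    (hP : (P : Subgroup G) = S0.map φ) {m w : G}
    (hm : m ∈ Subgroup.normalizer ((S0.map φ : Subgroup G) : Set G))
    (h1 : m * t * m⁻¹ = w) (h2 : m * w * m⁻¹ = t) : w = t := by
  set N := Subgroup.normalizer ((S0.map φ : Subgroup G) : Set G) with hN
  have hcard : Nat.card N = 168 := by
    rw [card_N h, (orb_eq h P hP).1]
  have hmm : Commute (m * m) t := by
    have : (m * m) * t * (m * m)⁻¹ = t := by
      calc (m * m) * t * (m * m)⁻¹ = m * (m * t * m⁻¹) * m⁻¹ := by group
        _ = t := by rw [h1, h2]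
    calc (m * m) * t = (m * m) * t * (m * m)⁻¹ * (m * m) := by group
      _ = t * (m * m) := by rw [this]
  have hle : S0.map φ ≤ N := Subgroup.le_normalizer
  have hidx : ((S0.map φ).subgroupOf N).index = 21 := by
    have h3 := Subgroup.card_mul_index ((S0.map φ).subgroupOf N)
    rw [hcard, Nat.card_congr (Subgroup.subgroupOfEquivOfLe hle).toEquiv, card_S h] at h3
    omega
  have h3 : (⟨m, hm⟩ : N) ^ ((S0.map φ).subgroupOf N).index ∈ (S0.map φ).subgroupOf N :=
    Subgroup.pow_index_mem _ _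
  rw [hidx] at h3
  have h4 : m ^ 21 ∈ S0.map φ := by
    have := Subgroup.mem_subgroupOf.1 h3
    simpa using this
  have h5 : m ^ 21 * t = t * m ^ 21 := S_comm φ _ h4 _ (t_mem_S h)
  have h6 : m ^ 21 = m * (m * m) ^ 10 := by
    rw [← pow_two, ← pow_mul, ← pow_succ']
  have h7 : m ^ 21 * t = w * m ^ 21 := by
    have h8 : (m * m) ^ 10 * t = t * (m * m) ^ 10 := (hmm.pow_left 10)
    rw [h6, mul_assoc, h8, ← mul_assoc, ← mul_assoc, ← h1]
    group
  rw [h5] at h7
  exact (mul_right_cancel h7).symm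

/-- The type rule for `x = t`. -/
theorem typeRule_aux [Finite G] [IsSimpleGroup G] (h : Emb t φ) (P : Sylow 2 G)
    (hP : (P : Subgroup G) = S0.map φ) {w : G} (hw : w ∈ S0.map φ) (hw1 : w ≠ 1) (hwt : w ≠ t) :
    w ∈ F t ↔ t ∉ F w := by
  obtain ⟨v, hv, rfl⟩ := hw
  have hv1 : v ≠ 1 := by rintro rfl; exact hw1 (map_one φ)
  have hvz : v ≠ z0 := by rintro rfl; exact hwt h.map_z
  obtain ⟨n, hn, hnv⟩ := (orb_eq h P hP).2 v hv hv1
  have hsnd : ∀ y : ZA, y ≠ 1 → y ≠ z0 → y.2 ≠ 1 := by
    intro y hy1 hy2 hy3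
    rcases z2_cases y.1 with hh | hh
    · exact hy1 (Prod.ext hh hy3)
    · exact hy2 (Prod.ext hh hy3)
  have hw' : n⁻¹ * t * n ∈ S0.map φ := by
    have := (Subgroup.mem_normalizer_iff.1 hn (n⁻¹ * t * n)).2
    apply this
    have h1 : n * (n⁻¹ * t * n) * n⁻¹ = t := by group
    rw [h1]
    exact t_mem_S h
  obtain ⟨v', hv', hvv⟩ := hw'
  have hv'1 : v' ≠ 1 := by
    rintro rfl
    rw [map_one] at hvv
    apply h.t_ne
    calc t = n * (n⁻¹ * t * n) * n⁻¹ := by group
      _ = 1 := by rw [← hvv]; group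
  have hv'z : v' ≠ z0 := by
    rintro rfl
    rw [h.map_z] at hvv
    apply hwt
    rw [← hnv]
    calc n * t * n⁻¹ = n * (n⁻¹ * t * n) * n⁻¹ := by rw [← hvv]
      _ = t := by group
  have hF1 : φ v ∈ F t ↔ v.1 = 1 := h.mem_F_iff v
  have hF2 : t ∈ F (φ v) ↔ v'.1 = 1 := by
    rw [← h.mem_F_iff v', hvv, ← hnv]
    have := mem_F_conj n t (n⁻¹ * t * n)
    rw [← this]
    have h1 : n * (n⁻¹ * t * n) * n⁻¹ = t := by group
    rw [h1]
  rw [hF1, hF2]
  have hne : v.1 ≠ v'.1 := by
    intro heq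
    obtain ⟨c, hc, hct, hcv⟩ := conj_in_C h hv hv' (hsnd v hv1 hvz) (hsnd v' hv'1 hv'z) heq
    apply hwt
    apply no_swap h P hP (mul_mem hn hc)
    · calc n * c * t * (n * c)⁻¹ = n * (c * t) * c⁻¹ * n⁻¹ := by group
        _ = n * (t * c) * c⁻¹ * n⁻¹ := by rw [hct]
        _ = n * t * n⁻¹ := by group
        _ = φ v := hnv
    · calc n * c * φ v * (n * c)⁻¹ = n * (c * φ v * c⁻¹) * n⁻¹ := by group
        _ = n * (n⁻¹ * t * n) * n⁻¹ := by rw [hcv, hvv]
        _ = t := by group
  have h01 : (1 : Multiplicative (ZMod 2)) ≠ Multiplicative.ofAdd 1 := by decide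
  rcases z2_cases v.1 with h1 | h1 <;> rcases z2_cases v'.1 with h2 | h2
  · exact absurd (h1.trans h2.symm) hne
  · rw [h1, h2]
    exact ⟨fun _ hh => h01 hh.symm, fun _ => rfl⟩
  · rw [h1, h2]
    exact ⟨fun hh => absurd hh.symm h01, fun hh => absurd rfl hh⟩
  · exact absurd (h1.trans h2.symm) hne

/-- **Fusion in groups of type `J1`.** -/
theorem fus_of_simple [Finite G] [IsSimpleGroup G] (t : G) (ht : Cfsg.IsTwoCentralInvolution t)
    (e : Subgroup.centralizer ({t} : Set G) ≃* Multiplicative (ZMod 2) × alternatingGroup (Fin 5)) : Fus G := by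
  obtain ⟨φ, h⟩ := exists_emb t ht.1 ⟨e⟩
  obtain ⟨P, hP⟩ := exists_sylow ht h
  have hsyl : ∀ S : Sylow 2 G, ∃ g : G, ∀ x : G, x ∈ S ↔ g⁻¹ * x * g ∈ S0.map φ := by
    intro S
    obtain ⟨g, rfl⟩ := MulAction.exists_smul_eq G P S
    refine ⟨g, fun x => ?_⟩
    rw [← hP]
    show x ∈ ((g • P : Sylow 2 G) : Subgroup G) ↔ _
    rw [Sylow.coe_subgroup_smul, Subgroup.mem_pointwise_smul_iff_inv_smul_mem]
    have : (MulAut.conj g)⁻¹ • x = g⁻¹ * x * g := by
      rw [← map_inv]
      show g⁻¹ * x * g⁻¹⁻¹ = _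
      rw [inv_inv]
    rw [this]
  have hmem : ∀ x : G, orderOf x = 2 → ∃ S : Sylow 2 G, x ∈ S := by
    intro x hx
    have h1 : IsPGroup 2 (Subgroup.zpowers x) := by
      apply IsPGroup.of_card (n := 1)
      rw [Nat.card_zpowers, hx]; norm_num
    obtain ⟨S, hS⟩ := h1.exists_le_sylow
    exact ⟨S, hS (Subgroup.mem_zpowers x)⟩
  have hinv : ∀ x : G, orderOf x = 2 → ∃ g : G, g * t * g⁻¹ = x := by
    intro x hx
    obtain ⟨S, hS⟩ := hmem x hx
    obtain ⟨g, hg⟩ := hsyl S
    obtain ⟨y, hy, hyx⟩ := (hg x).1 hS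
    have hy1 : y ≠ 1 := by
      rintro rfl
      rw [map_one] at hyx
      have : x = 1 := by
        calc x = g * (g⁻¹ * x * g) * g⁻¹ := by group
          _ = 1 := by rw [← hyx]; group
      rw [this, orderOf_one] at hx
      omega
    obtain ⟨n, hn, hny⟩ := (orb_eq h P hP).2 y hy hy1
    refine ⟨g * n, ?_⟩
    calc g * n * t * (g * n)⁻¹ = g * (n * t * n⁻¹) * g⁻¹ := by group
      _ = g * (g⁻¹ * x * g) * g⁻¹ := by rw [hny, hyx]
      _ = x := by group
  have hcard8 : ∀ S : Sylow 2 G, Nat.card S = 8 := by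
    intro S
    rw [S.card_eq_multiplicity, ← P.card_eq_multiplicity]
    show Nat.card (P : Subgroup G) = 8
    rw [hP, card_S h]
  refine ⟨?_, ?_, hcard8, ?_, ?_, ?_, ⟨t, h.orderOf_t⟩⟩
  · intro x y hx hy
    obtain ⟨g, rfl⟩ := hinv x hx
    obtain ⟨k, rfl⟩ := hinv y hy
    exact ⟨k * g⁻¹, by group⟩
  · intro x hx
    obtain ⟨g, rfl⟩ := hinv x hx
    exact (h.conj g).nonempty_mulEquiv
  · intro S x hx
    obtain ⟨g, hg⟩ := hsyl S
    have h1 := S_sq φ _ ((hg x).1 hx)
    calc x * x = g * ((g⁻¹ * x * g) * (g⁻¹ * x * g)) * g⁻¹ := by group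
      _ = 1 := by rw [h1]; group
  · intro S
    have h1 : (Subgroup.normalizer ((S : Subgroup G) : Set G)).index =
        (Subgroup.normalizer ((P : Subgroup G) : Set G)).index :=
      S.card_eq_index_normalizer.symm.trans P.card_eq_index_normalizer
    have h2 := Subgroup.card_mul_index (Subgroup.normalizer ((S : Subgroup G) : Set G))
    have h3 := Subgroup.card_mul_index (Subgroup.normalizer ((P : Subgroup G) : Set G))
    rw [h1, ← h3] at h2
    have h4 : (Subgroup.normalizer ((P : Subgroup G) : Set G)).index ≠ 0 := Subgroup.index_ne_zero_of_finite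
    have h5 := Nat.eq_of_mul_eq_mul_right (Nat.pos_of_ne_zero h4) h2
    rw [h5, hP, card_N h, (orb_eq h P hP).1]
  · intro x y hx hy hne hcomm
    -- a common Sylow subgroup
    have hp1 : IsPGroup 2 (Subgroup.zpowers x) := by
      apply IsPGroup.of_card (n := 1)
      rw [Nat.card_zpowers, hx]; norm_num
    have hp2 : IsPGroup 2 (Subgroup.zpowers y) := by
      apply IsPGroup.of_card (n := 1)
      rw [Nat.card_zpowers, hy]; norm_num
    have hnorm : Subgroup.zpowers x ≤ Subgroup.normalizer ((Subgroup.zpowers y : Subgroup G) : Set G) := by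
      rw [Subgroup.zpowers_le, Subgroup.mem_normalizer_iff]
      intro g
      constructor
      · rintro ⟨k, rfl⟩
        refine ⟨k, ?_⟩
        have : Commute x (y ^ k) := (show Commute x y from hcomm).zpow_right k
        show y ^ k = x * y ^ k * x⁻¹
        rw [this.eq, mul_inv_cancel_right]
      · rintro ⟨k, hk⟩
        refine ⟨k, ?_⟩
        have : Commute x (y ^ k) := (show Commute x y from hcomm).zpow_right k
        have hk' : y ^ k = x * g * x⁻¹ := hk
        show y ^ k = g
        calc y ^ k = x⁻¹ * (x * y ^ k) := by group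
          _ = x⁻¹ * (y ^ k * x) := by rw [this.eq]
          _ = g := by rw [hk']; group
    obtain ⟨S, hS⟩ := (hp1.to_sup_of_normal_right' hp2 hnorm).exists_le_sylow
    have hxS : x ∈ S := hS (Subgroup.mem_sup_left (Subgroup.mem_zpowers x))
    have hyS : y ∈ S := hS (Subgroup.mem_sup_right (Subgroup.mem_zpowers y))
    obtain ⟨g, hg⟩ := hsyl S
    obtain ⟨u, hu, hux⟩ := (hg x).1 hxS
    have hu1 : u ≠ 1 := by
      rintro rfl
      rw [map_one] at hux
      have : x = 1 := by
        calc x = g * (g⁻¹ * x * g) * g⁻¹ := by group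
          _ = 1 := by rw [← hux]; group
      rw [this, orderOf_one] at hx
      omega
    obtain ⟨n, hn, hnu⟩ := (orb_eq h P hP).2 u hu hu1
    have hyP := (hg y).1 hyS
    have hcx : (g * n) * t * (g * n)⁻¹ = x := by
      calc g * n * t * (g * n)⁻¹ = g * (n * t * n⁻¹) * g⁻¹ := by group
        _ = g * (g⁻¹ * x * g) * g⁻¹ := by rw [hnu, hux]
        _ = x := by group
    have hwS : (g * n)⁻¹ * y * (g * n) ∈ S0.map φ := by
      have h1 : (g * n)⁻¹ * y * (g * n) = n⁻¹ * (g⁻¹ * y * g) * n := by group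
      rw [h1]
      apply (Subgroup.mem_normalizer_iff.1 hn _).2
      have h2 : n * (n⁻¹ * (g⁻¹ * y * g) * n) * n⁻¹ = g⁻¹ * y * g := by group
      rw [h2]
      exact hyP
    have hcy : (g * n) * ((g * n)⁻¹ * y * (g * n)) * (g * n)⁻¹ = y := by group
    have h1 : (g * n)⁻¹ * y * (g * n) ≠ 1 := by
      intro hh
      rw [hh] at hcy
      have : y = 1 := by rw [← hcy]; group
      rw [this, orderOf_one] at hy
      omega
    have h2 : (g * n)⁻¹ * y * (g * n) ≠ t := by
      intro hh
      rw [hh] at hcy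
      exact hne (hcx.symm.trans hcy)
    have h3 := typeRule_aux h P hP hwS h1 h2
    have h4 := mem_F_conj (g * n) t ((g * n)⁻¹ * y * (g * n))
    have h5 := mem_F_conj (g * n) ((g * n)⁻¹ * y * (g * n)) t
    rw [hcx, hcy] at h4 h5
    rw [h4, h5]
    exact h3

end Cfsg.Agent.SporadicB.J1Local.Fusion
end

-- part: SporadicB/J1Local/Main
section
/-!
The local structure of a simple group of type `J1`.
-/

set_option autoImplicit false

namespace Cfsg.Agent.SporadicB.J1Local.Main

open Cfsg.Agent.SporRec.J1.Defs Cfsg.Agent.SporadicB.J1Local.Defs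

variable {G : Type*} [Group G]

theorem local_of_fus [Finite G] (h : Fus G) : Local G := by
  rcases Cases.cases h with hs | ⟨h3, h5⟩
  · exact (CountAbsurd.small_absurd h hs).elim
  · refine ⟨h.conj, h.cent, ?_, h.typeRule, h3, h5⟩
    intro h16
    have : Fact (Nat.Prime 2) := ⟨Nat.prime_two⟩
    obtain ⟨S⟩ : Nonempty (Sylow 2 G) := inferInstance
    have h1 : 2 ^ 4 ∣ Nat.card S := S.pow_dvd_card_of_pow_dvd_card (by simpa using h16)
    rw [h.card8 S] at h1
    revert h1; decide

theorem local_of_simple [Finite G] [IsSimpleGroup G] (t : G) (ht : Cfsg.IsTwoCentralInvolution t)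
    (e : Subgroup.centralizer ({t} : Set G) ≃* Multiplicative (ZMod 2) × alternatingGroup (Fin 5)) : Local G :=
  local_of_fus (Fusion.fus_of_simple t ht e)

end Cfsg.Agent.SporadicB.J1Local.Main
end
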